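import Cfsg.Agent.Lib.J4Big.Cocode.Data
import Cfsg.Agent.Lib.Golay.Code

/-!
# Computations in the cocode
-/

set_option autoImplicit false

namespace Cfsg.Agent.Lib.J4Big.Cocode

open Cfsg.Agent.Lib.Golay

/-- Multiplication by the root. -/
def step (a : ℕ) : ℕ :=
  bif a.testBit 10 then (a <<< 1) ^^^ (2 ^ 11 + (poly - 2048)) else a <<< 1

/-- The Frobenius. -/
def frob (a : ℕ) : ℕ := combine frobL a

/-- The value of a set of points. -/
def evP (m : ℕ) : ℕ := combine piL m

/-- Iteration. -/
def it (f : ℕ → ℕ) : ℕ → ℕ → ℕ
  | 0, a => a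
  | n + 1, a => f (it f n a)

/-- The short orbit. -/
def short : List ℕ := (List.range 23).map fun i => it step i 1

/-- A long orbit. -/
def long (r : ℕ) : List ℕ :=
  (List.range 11).flatMap fun j => (List.range 23).map fun i => it step i (it frob j r)

/-- Adding the members of a list to a mask, failing on repetitions. -/
def addAll : List ℕ → ℕ → Option ℕ
  | [], m => some m
  | a :: l, m => bif m.testBit a then none else addAll l (m ||| 2 ^ a)

theorem addAll_spec : ∀ {l : List ℕ} {m r : ℕ}, addAll l m = some r →
    l.Nodup ∧ (∀ a, r.testBit a = true ↔ m.testBit a = true ∨ a ∈ l) ∧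
      ∀ a ∈ l, m.testBit a = false
  | [], m, r, h => by
    simp only [addAll, Option.some.injEq] at h
    subst h
    simp
  | a :: l, m, r, h => by
    cases hb : m.testBit a with
    | true => simp [addAll, hb] at h
    | false =>
      simp only [addAll, hb, cond_false] at h
      obtain ⟨hd, hm, hf⟩ := addAll_spec h
      have hal : a ∉ l := fun ha => by
        have := hf a ha
        simp [Nat.testBit_or] at this
      refine ⟨List.nodup_cons.mpr ⟨hal, hd⟩, fun x => ?_, ?_⟩
      · rw [hm]
        simp only [Nat.testBit_or, Nat.testBit_two_pow, Bool.or_eq_true, decide_eq_true_eq,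
          List.mem_cons]
        tauto
      · intro x hx
        rcases List.mem_cons.mp hx with rfl | hx
        · exact hb
        · have := hf x hx
          simp only [Nat.testBit_or, Bool.or_eq_false_iff] at this
          exact this.1

/-- Equality of the result with a mask. -/
def isMask (l : List ℕ) (m : ℕ) : Bool :=
  match addAll l 0 with
  | some r => Nat.beq r m
  | none => false

theorem isMask_spec {l : List ℕ} {m : ℕ} (h : isMask l m = true) :
    l.Nodup ∧ ∀ a, m.testBit a = true ↔ a ∈ l := by
  unfold isMask at h
  cases he : addAll l 0 with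
  | none => rw [he] at h; simp at h
  | some r =>
    rw [he] at h
    simp only [Nat.beq_eq] at h
    subst h
    obtain ⟨h1, h2, -⟩ := addAll_spec he
    exact ⟨h1, fun a => by simp [h2 a]⟩

/-- All sums of subfamilies. -/
def spanL : List ℕ → List ℕ
  | [] => [0]
  | a :: l => spanL l ++ (spanL l).map fun x => x ^^^ a

/-- No repetition, by a mask. -/
def noRep (l : List ℕ) : Bool := (addAll l 0).isSome

theorem noRep_spec {l : List ℕ} (h : noRep l = true) : l.Nodup := by
  obtain ⟨r, hr⟩ := Option.isSome_iff_exists.mp h
  exact (addAll_spec hr).1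

/-- The index pairs. -/
def pairIdx : List (ℕ × ℕ) :=
  (List.range 24).flatMap fun j => (List.range j).map fun i => (i, j)

/-- The value of an index pair. -/
def pairVal (q : ℕ × ℕ) : ℕ := piL.getD q.1 0 ^^^ piL.getD q.2 0

theorem short_ok : (isMask short oShort && short.all (Nat.blt · 2048)) = true := by decide +kernel

theorem piL_take : piL = short ++ [0] := by decide +kernel

theorem good_ok : (isMask (short ++ long goodRep) dGood &&
    isMask (pairIdx.map pairVal) dGood && Nat.blt dGood (2 ^ 2048)) = true := by decide +kernel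

theorem bad_ok : (badData.all fun q => isMask (short ++ long q.1) q.2.2.2 &&
    Nat.blt 0 q.2.1 && Nat.blt q.2.1 2048 && !q.2.2.2.testBit q.2.1 &&
    (q.2.2.1.all fun d => q.2.2.2.testBit d && q.2.2.2.testBit (d ^^^ q.2.1) && Nat.blt d 2048) &&
    Nat.beq q.2.2.1.length 8 && noRep (spanL q.2.2.1)) = true := by decide +kernel

theorem cover_ok : ((List.range 2048).all fun a => Nat.beq a 0 || oShort.testBit a ||
    dGood.testBit a || badData.any fun q => q.2.2.2.testBit a) = true := by decide +kernel

theorem share_ok : (pairIdx.all fun q => pairIdx.all fun r =>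
    (!Nat.blt (pairVal q) (pairVal r)) || (!dGood.testBit (pairVal q ^^^ pairVal r)) ||
      Nat.beq q.1 r.1 || Nat.beq q.1 r.2 || Nat.beq q.2 r.1 || Nat.beq q.2 r.2) = true := by
  decide +kernel

theorem rows_ok : (rows.all fun r => Nat.beq (evP r) 0 && Nat.beq (pc24 r) 8) = true := by
  decide +kernel

theorem high_ok : ((List.range 4096).all fun h => !Nat.beq (evP (h * 4096)) 0 || Nat.beq h 0 ||
    Nat.beq h 2048) = true := by decide +kernel

end Cfsg.Agent.Lib.J4Big.Cocode
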