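import Cfsg.Agent.Lib.J4Big.Cocode.Frame

/-!
# Stabilisers of the 276 preserve the code
-/

set_option autoImplicit false
set_option linter.unusedSectionVars false

namespace Cfsg.Agent.Lib.J4Big.Cocode

open Cfsg Cfsg.Agent.Lib.Golay
open scoped Pointwise

theorem combine_prod {M : Type*} [CommMonoid M] (φ : ℕ → M) (h0 : φ 0 = 1)
    (h : ∀ a b, a < 2048 → b < 2048 → φ (a ^^^ b) = φ a * φ b) :
    ∀ (l : List ℕ), (∀ x ∈ l, x < 2048) → ∀ m : ℕ, combine l m < 2048 ∧
      φ (combine l m) =
        ∏ i ∈ Finset.range l.length, if m.testBit i = true then φ (l.getD i 0) else 1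
  | [], _, m => by simp [combine, h0]
  | r :: l, hl, m => by
    obtain ⟨hlt, hval⟩ := combine_prod φ h0 h l (fun x hx => hl x (List.mem_cons_of_mem _ hx)) (m / 2)
    have hr : (if m % 2 = 1 then r else 0) < 2048 := by
      split
      · exact hl r List.mem_cons_self
      · norm_num
    refine ⟨Nat.xor_lt_two_pow (n := 11) hr hlt, ?_⟩
    rw [combine, h _ _ hr hlt, hval, List.length_cons, Finset.prod_range_succ', mul_comm]
    congr 1
    · refine Finset.prod_congr rfl fun i _ => ?_
      rw [List.getD_cons_succ, Nat.testBit_succ]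
    · rw [List.getD_cons_zero, Nat.testBit_zero]
      by_cases hm : m % 2 = 1 <;> simp [hm, h0]

theorem exists_mask (s : Finset GolayPt) : ∃ m < 2 ^ 24, setOfMask m = s := by
  have hb : Function.Bijective fun m : Fin (2 ^ 24) => setOfMask (m : ℕ) := by
    rw [Fintype.bijective_iff_injective_and_card]
    refine ⟨fun a b h => Fin.ext (setOfMask_injOn a.isLt b.isLt h), ?_⟩
    rw [Fintype.card_finset, card_golayPt, Fintype.card_fin]
  obtain ⟨m, hm⟩ := hb.2 s
  exact ⟨m, m.isLt, hm⟩

theorem evP_combine_rows : ∀ k : ℕ, evP (combine rows k) = 0 := by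
  have key : ∀ rs : List ℕ, (∀ r ∈ rs, evP r = 0) → ∀ k, evP (combine rs k) = 0 := by
    intro rs
    induction rs with
    | nil => intro _ k; exact combine_zero piL
    | cons r rs ih =>
      intro hr k
      rw [combine, evP, combine_xor, ← evP, ← evP,
        ih (fun x hx => hr x (List.mem_cons_of_mem _ hx)), Nat.xor_zero]
      split
      · exact hr r List.mem_cons_self
      · exact combine_zero piL
  refine key rows fun r hr => ?_
  have h := rows_ok
  simp only [List.all_eq_true, Bool.and_eq_true, Nat.beq_eq] at h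
  exact (h r hr).1

/-- An eight point set of value zero is in the code. -/
theorem mem_supports_of_evP {m : ℕ} (hm : m < 2 ^ 24) (h0 : evP m = 0)
    (h8 : (setOfMask m).card = 8) :
    setOfMask m ∈ supports (golayCode : Set (GolayPt → ZMod 2)) := by
  set k := m % 4096 with hk
  have hk' : k < 4096 := Nat.mod_lt _ (by norm_num)
  set h := (m ^^^ enc k) / 4096 with hh
  have hmod : (m ^^^ enc k) % 4096 = 0 := by
    rw [show (4096 : ℕ) = 2 ^ 12 from rfl, Nat.xor_mod_two_pow, show (2 : ℕ) ^ 12 = 4096 from rfl,
      enc_mod hk', Nat.xor_self]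
  have hlt : h < 4096 := by
    rw [hh, Nat.div_lt_iff_lt_mul (by norm_num)]
    exact Nat.xor_lt_two_pow hm (enc_lt hk')
  have he : m ^^^ enc k = h * 4096 := by
    have := Nat.div_add_mod (m ^^^ enc k) 4096
    omega
  have hev : evP (h * 4096) = 0 := by
    rw [← he, evP, combine_xor, ← evP, ← evP, h0, enc_eq hk', evP_combine_rows, Nat.xor_zero]
  have hcases := high_ok
  simp only [List.all_eq_true, Bool.or_eq_true, Bool.not_eq_true', ← Bool.not_eq_true, Nat.beq_eq,
    List.mem_range] at hcases
  rcases hcases h hlt with (hc | hc) | hc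
  · exact absurd hev hc
  · have : m = enc k := by rw [← Nat.xor_eq_zero_iff, he, hc, zero_mul]
    rw [this]
    exact setOfMask_mem_supports (inCode_enc hk')
  · exfalso
    have hmk : enc k = m ^^^ 2 ^ 23 := by
      rw [show (2 : ℕ) ^ 23 = 2048 * 4096 by norm_num, ← hc, ← he, ← Nat.xor_assoc, Nat.xor_self,
        Nat.zero_xor]
    have hbit : ∀ q : GolayPt, (enc k).testBit (idx q) =
        (m.testBit (idx q) ^^ decide (q = none)) := by
      intro q
      rw [hmk, Nat.testBit_xor, Nat.testBit_two_pow]
      congr 1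
      exact Bool.decide_congr ⟨fun e => idx_injective e.symm, fun e => by rw [e]; rfl⟩
    have hcard : (setOfMask (enc k)).card = 7 ∨ (setOfMask (enc k)).card = 9 := by
      by_cases hn : (none : GolayPt) ∈ setOfMask m
      · left
        rw [show setOfMask (enc k) = (setOfMask m).erase none by
          ext q
          simp only [mem_setOfMask, hbit, Finset.mem_erase]
          by_cases hq : q = none
          · subst hq; simp [mem_setOfMask.mp hn]
          · simp [hq], Finset.card_erase_of_mem hn, h8]
      · right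
        rw [show setOfMask (enc k) = insert none (setOfMask m) by
          ext q
          simp only [mem_setOfMask, hbit, Finset.mem_insert]
          by_cases hq : q = none
          · subst hq
            have : m.testBit (idx (none : GolayPt)) = false := by
              rw [← Bool.not_eq_true]; exact fun e => hn (mem_setOfMask.mpr e)
            simp [this]
          · simp [hq], Finset.card_insert_of_notMem hn, h8]
    have := card_of_mem_supports (setOfMask_mem_supports (inCode_enc hk'))
    omega

variable {G : Type*} [Group G] {V : Subgroup G} {D : Set G} {ψ : ℕ → G}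

namespace IsFrame

/-- `V` is commutative. -/
@[instance_reducible]
def subCM (H : IsFrame V D ψ) : CommMonoid ↥V :=
  { (inferInstance : Monoid ↥V) with mul_comm := fun a b => Subtype.ext (H.comm a.2 b.2) }

/-- The value of a set of points is the product of the point elements. -/
theorem prod_set (H : IsFrame V D ψ) (m : ℕ) :
    letI := H.subCM
    evP m < 2048 ∧ (⟨ψ (evP m), H.mem _⟩ : ↥V) =
      ∏ q ∈ setOfMask m, (⟨Pt ψ q, H.pt_mem q⟩ : ↥V) := by
  let := H.subCM
  have h0 : (⟨ψ 0, H.mem 0⟩ : ↥V) = 1 := Subtype.ext H.psi_zero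
  obtain ⟨hlt, hval⟩ := combine_prod (fun a => (⟨ψ a, H.mem a⟩ : ↥V)) h0
    (fun a b ha hb => Subtype.ext (H.mul a b ha hb)) piL piL_lt m
  refine ⟨hlt, hval.trans ?_⟩
  rw [show piL.length = 24 from rfl, ← Finset.prod_filter]
  refine Finset.prod_bij (fun i _ => pt i) ?_ ?_ ?_ ?_
  · intro i hi
    simp only [Finset.mem_filter, Finset.mem_range] at hi
    simp [idx_pt hi.1, hi.2]
  · intro i hi j hj h
    simp only [Finset.mem_filter, Finset.mem_range] at hi hj
    rw [← idx_pt hi.1, h, idx_pt hj.1]
  · intro q hq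
    exact ⟨idx q, by simpa [idx_lt q] using mem_setOfMask.mp hq, pt_idx q⟩
  · intro i hi
    simp only [Finset.mem_filter, Finset.mem_range] at hi
    refine Subtype.ext ?_
    show ψ (piL.getD i 0) = ψ (piV (pt i))
    rw [piV, idx_pt hi.1]

/-- The permutation of a stabiliser lies in the group of the code. -/
theorem perm_mem (H : IsFrame V D ψ) {n : G} (hN : ∀ v ∈ V, n * v * n⁻¹ ∈ V)
    {σ : Equiv.Perm GolayPt}
    (h : ∀ a, n * Pt ψ a * n⁻¹ = Pt ψ (σ none) * Pt ψ (σ a)) : σ ∈ M24 := by
  classical
  refine mem_M24_of_rows fun r hr => ?_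
  let := H.subCM
  have hr' := rows_ok
  simp only [List.all_eq_true, Bool.and_eq_true, Nat.beq_eq] at hr'
  obtain ⟨hev, hw⟩ := hr' r hr
  let P : GolayPt → ↥V := fun q => ⟨Pt ψ q, H.pt_mem q⟩
  have hr0 : ∏ q ∈ setOfMask r, P q = 1 := by
    rw [← (H.prod_set r).2, Subtype.ext_iff]
    show ψ (evP r) = 1
    rw [hev, H.psi_zero]
  let c : ↥V →* ↥V :=
    { toFun := fun v => ⟨n * v * n⁻¹, hN v v.2⟩
      map_one' := Subtype.ext (by simp)
      map_mul' := fun a b => Subtype.ext (by simp [mul_assoc]) }
  have hc : ∀ q, c (P q) = P (σ none) * P (σ q) := fun q => Subtype.ext (h q)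
  have hcard : (setOfMask r).card = 8 := by rw [card_setOfMask, hw]
  have himg : ∏ q ∈ σ • setOfMask r, P q = 1 := by
    have h1 := congrArg c hr0
    rw [map_prod, map_one, Finset.prod_congr rfl (fun q _ => hc q), Finset.prod_mul_distrib,
      Finset.prod_const, hcard] at h1
    have h2 : P (σ none) ^ 8 = 1 := by
      rw [show (8 : ℕ) = 2 * 4 from rfl, pow_mul, pow_two,
        show P (σ none) * P (σ none) = 1 from Subtype.ext (H.pt_sq _), one_pow]
    rw [h2, one_mul] at h1
    simp only [Finset.smul_finset_def, Equiv.Perm.smul_def]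
    rw [Finset.prod_image fun a _ b _ e => σ.injective e]

    exact h1
  obtain ⟨m, hm, hms⟩ := exists_mask (σ • setOfMask r)
  rw [← hms] at himg ⊢
  refine mem_supports_of_evP hm ?_ (by rw [hms, Finset.card_smul_finset, hcard])
  obtain ⟨hlt, hval⟩ := H.prod_set m
  rw [himg, Subtype.ext_iff] at hval
  exact H.inj _ _ hlt (by norm_num) (hval.trans H.psi_zero.symm)

end IsFrame

end Cfsg.Agent.Lib.J4Big.Cocode
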