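import Cfsg.Agent.Lib.J4Big.Cocode.Frame

/-!
# Coordinates from an element of order 23 and an element squaring it
-/

set_option autoImplicit false
set_option linter.unusedSectionVars false

namespace Cfsg.Agent.Lib.J4Big.Cocode

open Cfsg.Agent.Lib.Golay

variable {G : Type*} [Group G]

/-- The hypotheses on the pair of elements. -/
structure Pair23 (V : Subgroup G) (D : Set G) (g y v : G) : Prop where
  sq : ∀ a ∈ V, a * a = 1
  card : Nat.card ↥V = 2 ^ 11
  g_pow : g ^ 23 = 1
  g_V : ∀ a ∈ V, g * a * g⁻¹ ∈ V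
  y_V : ∀ a ∈ V, y * a * y⁻¹ ∈ V
  g_D : ∀ a ∈ V, (g * a * g⁻¹ ∈ D ↔ a ∈ D)
  y_D : ∀ a ∈ V, (y * a * y⁻¹ ∈ D ↔ a ∈ D)
  y_g : y * g * y⁻¹ = g ^ 2
  v_D : v ∈ D
  y_v : y * v * y⁻¹ = v
  sub_D : D ⊆ V
  one_D : (1 : G) ∉ D
  card_D : D.ncard = 276
  fix : ∀ a ∈ V, g * a * g⁻¹ = a → a = 1
  narrow : ∀ a ∈ V, a ≠ 1 → a ∉ D →
    ∃ W : Subgroup G, Nat.card ↥W ≤ 128 ∧ ∀ d ∈ D, d * a ∈ D → d ∈ W

/-- Products over the set bits. -/
def pw (x : ℕ → G) : ℕ → ℕ → G
  | 0, _ => 1
  | n + 1, a => pw x n a * (if a.testBit n then x n else 1)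

/-- Two additive maps agreeing on the basis are equal. -/
theorem ext_basis {M : Type*} [Group M] {φ φ' : ℕ → M}
    (h : ∀ a b, a < 2048 → b < 2048 → φ (a ^^^ b) = φ a * φ b)
    (h' : ∀ a b, a < 2048 → b < 2048 → φ' (a ^^^ b) = φ' a * φ' b)
    (hb : ∀ i < 11, φ (2 ^ i) = φ' (2 ^ i)) : ∀ a < 2048, φ a = φ' a := by
  have zero : ∀ f : ℕ → M, (∀ a b, a < 2048 → b < 2048 → f (a ^^^ b) = f a * f b) → f 0 = 1 :=
    fun f hf => by
      have := hf 0 0 (by norm_num) (by norm_num)
      rw [Nat.xor_self] at this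
      exact mul_left_cancel (this.symm.trans (mul_one _).symm)
  have key : ∀ i ≤ 11, ∀ a < 2 ^ i, φ a = φ' a := by
    intro i
    induction i with
    | zero =>
      intro _ a ha
      have ha' : a = 0 := by simpa using ha
      rw [ha', zero φ h, zero φ' h']
    | succ i ih =>
      intro hi a ha
      by_cases hlt : a < 2 ^ i
      · exact ih (by omega) a hlt
      · have hbit : a ^^^ 2 ^ i < 2 ^ i := by
          refine Nat.lt_pow_two_of_testBit _ fun j hj => ?_
          rcases eq_or_lt_of_le hj with rfl | hj'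
          · have : a.testBit i = true := Nat.testBit_of_two_pow_le_and_two_pow_add_one_gt
              (by omega) ha
            simp [this]
          · rw [Nat.testBit_xor, Nat.testBit_lt_two_pow (ha.trans_le
              (Nat.pow_le_pow_right (by norm_num) hj')), Nat.testBit_two_pow]
            simp [Nat.ne_of_lt hj']
        have h11 : (2 : ℕ) ^ i < 2048 := lt_of_lt_of_le (Nat.pow_lt_pow_right (by norm_num)
          (show i < 11 by omega)) (by norm_num)
        rw [show a = (a ^^^ 2 ^ i) ^^^ 2 ^ i by rw [Nat.xor_assoc, Nat.xor_self, Nat.xor_zero],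
          h _ _ (by omega) h11, h' _ _ (by omega) h11, ih (by omega) _ hbit, hb i (by omega)]
  exact fun a ha => key 11 le_rfl a (by norm_num; omega)

/-- The images of the basis under `step`. -/
def stepL : List ℕ := [2, 4, 8, 16, 32, 64, 128, 256, 512, 1024, 1141]

theorem step_ok : ((List.range 2048).all fun a => Nat.beq (step a) (combine stepL a) &&
    Nat.blt (step a) 2048 && Nat.blt (frob a) 2048) = true := by decide +kernel

theorem step_spec {a : ℕ} (ha : a < 2048) :
    step a = combine stepL a ∧ step a < 2048 ∧ frob a < 2048 := by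
  have h := step_ok
  simp only [List.all_eq_true, Bool.and_eq_true, Nat.beq_eq, Nat.blt_eq, List.mem_range] at h
  exact ⟨(h a ha).1.1, (h a ha).1.2, (h a ha).2⟩

theorem step_xor {a b : ℕ} (ha : a < 2048) (hb : b < 2048) :
    step (a ^^^ b) = step a ^^^ step b := by
  rw [(step_spec (Nat.xor_lt_two_pow (n := 11) ha hb)).1, (step_spec ha).1, (step_spec hb).1,
    combine_xor]

theorem step_basis : ∀ i < 11, step (2 ^ i) = if i = 10 then 1141 else 2 ^ (i + 1) := by
  decide +kernel

theorem frob_basis : ∀ i < 11, frob (2 ^ i) = it step ((2 * i) % 23) 1 := by decide +kernel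

theorem it_lt : ∀ n a, a < 2048 → it step n a < 2048
  | 0, _, h => h
  | n + 1, a, h => (step_spec (it_lt n a h)).2.1

/-- The exponents repeated twice in the product of the two factors. -/
def dupL : List ℕ := [5, 6, 7, 9, 10, 11, 11, 11, 12, 13, 15, 16, 17]

theorem dup_ok : (([0, 2, 4, 5, 6, 10, 11] : List ℕ).flatMap fun i =>
    ([0, 1, 5, 6, 7, 9, 11] : List ℕ).map (i + ·)).Perm (List.range 23 ++ dupL ++ dupL) := by
  decide +kernel

theorem two_pow_mod_23 : ∀ c ≤ 11, 2 ^ c % 23 = 1 → c = 0 ∨ c = 11 := by decide +kernel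

variable [Finite G] {V : Subgroup G} {D : Set G} {g y v : G}

namespace Pair23

theorem conj_pow (H : Pair23 V D g y v) : ∀ (n : ℕ) {a : G}, a ∈ V → g ^ n * a * (g ^ n)⁻¹ ∈ V
  | 0, a, ha => by simpa using ha
  | n + 1, a, ha => by
    have := H.g_V _ (H.conj_pow n ha)
    rwa [pow_succ', show g * g ^ n * a * (g * g ^ n)⁻¹ = g * (g ^ n * a * (g ^ n)⁻¹) * g⁻¹ by group]

theorem comm (H : Pair23 V D g y v) {a b : G} (ha : a ∈ V) (hb : b ∈ V) : a * b = b * a := by
  rw [← inv_eq_of_mul_eq_one_right (H.sq _ (mul_mem ha hb)), mul_inv_rev,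
    inv_eq_of_mul_eq_one_right (H.sq _ ha), inv_eq_of_mul_eq_one_right (H.sq _ hb)]

/-- An invariant subgroup is trivial or all of `V`. -/
theorem irred (H : Pair23 V D g y v) {W : Subgroup G} (hW : W ≤ V)
    (hg : ∀ a ∈ W, g * a * g⁻¹ ∈ W) {a : G} (ha : a ∈ W) (h1 : a ≠ 1) : W = V := by
  classical
  have := Fintype.ofFinite G
  have := Fact.mk (show Nat.Prime 23 by norm_num)
  have hgn : ∀ n (b : ↥W), g ^ n * b * (g ^ n)⁻¹ ∈ W := by
    intro n
    induction n with
    | zero => intro b; simp
    | succ n ih =>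
      intro b
      have := hg _ (ih b)
      rwa [pow_succ', show g * g ^ n * (b : G) * (g * g ^ n)⁻¹ =
        g * (g ^ n * b * (g ^ n)⁻¹) * g⁻¹ by group]
  let σ : Equiv.Perm ↥W :=
    { toFun := fun b => ⟨g * b * g⁻¹, hg b b.2⟩
      invFun := fun b => ⟨g ^ 22 * b * (g ^ 22)⁻¹, hgn 22 b⟩
      left_inv := fun b => Subtype.ext (by
        show g ^ 22 * (g * b * g⁻¹) * (g ^ 22)⁻¹ = b
        rw [show g ^ 22 * (g * (b : G) * g⁻¹) * (g ^ 22)⁻¹ = g ^ 23 * b * (g ^ 23)⁻¹ by group,
          H.g_pow, one_mul, inv_one, mul_one])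
      right_inv := fun b => Subtype.ext (by
        show g * (g ^ 22 * b * (g ^ 22)⁻¹) * g⁻¹ = b
        rw [show g * (g ^ 22 * (b : G) * (g ^ 22)⁻¹) * g⁻¹ = g ^ 23 * b * (g ^ 23)⁻¹ by group,
          H.g_pow, one_mul, inv_one, mul_one]) }
  have hpow : ∀ n (b : ↥W), ((σ ^ n) b : G) = g ^ n * b * (g ^ n)⁻¹ := by
    intro n
    induction n with
    | zero => intro b; simp
    | succ n ih =>
      intro b
      rw [pow_succ', Equiv.Perm.mul_apply]
      show g * ((σ ^ n) b : G) * g⁻¹ = _
      rw [ih, pow_succ']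
      group
  have h := Equiv.Perm.card_compl_support_modEq (p := 23) (n := 1) (σ := σ)
    (Equiv.ext fun b => Subtype.ext (by rw [pow_one, hpow, H.g_pow]; simp))
  have hfix : (σ.supportᶜ : Finset ↥W) = {1} := by
    ext b
    simp only [Finset.mem_compl, Equiv.Perm.mem_support, not_not, Finset.mem_singleton]
    constructor
    · exact fun e => Subtype.ext (H.fix b (hW b.2) (congrArg Subtype.val e))
    · rintro rfl
      exact Subtype.ext (by show g * 1 * g⁻¹ = 1; group)
  rw [hfix, Finset.card_singleton, ← Nat.card_eq_fintype_card] at h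
  obtain ⟨c, hc⟩ := (((IsPGroup.of_card H.card).to_le hW).exists_card_eq :
    ∃ c, Nat.card ↥W = 2 ^ c)
  rw [hc] at h
  have hle : c ≤ 11 := (Nat.pow_le_pow_iff_right (by norm_num : 1 < 2)).mp
    (hc ▸ H.card ▸ Subgroup.card_le_of_le hW)
  rcases two_pow_mod_23 c hle h.symm with rfl | rfl
  · rw [pow_zero, Subgroup.card_eq_one] at hc
    rw [hc, Subgroup.mem_bot] at ha
    exact absurd ha h1
  · exact Subgroup.eq_of_le_of_card_ge hW (by rw [hc, H.card])

theorem v_ne (H : Pair23 V D g y v) : v ≠ 1 := fun h => H.one_D (h ▸ H.v_D)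

theorem v_mem (H : Pair23 V D g y v) : v ∈ V := H.sub_D H.v_D

/-- The conjugates of `v`. -/
def xs (g v : G) (i : ℕ) : G := g ^ i * v * (g ^ i)⁻¹

/-- The reciprocal pair. -/
theorem inv (H : Pair23 V D g y v) : Pair23 V D g⁻¹ y v := by
  have hmem : ∀ a ∈ V, g⁻¹ * a * g⁻¹⁻¹ ∈ V := fun a ha => by
    have := H.conj_pow 22 ha
    rwa [show g ^ 22 = g⁻¹ from eq_inv_of_mul_eq_one_left (by rw [← pow_succ]; exact H.g_pow)] at this
  refine
    { H with
      g_pow := by rw [inv_pow, H.g_pow, inv_one]
      g_V := hmem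
      g_D := fun a ha => ?_
      y_g := by rw [inv_pow, ← H.y_g]; group
      fix := fun a ha h => H.fix a ha ?_ }
  · rw [← H.g_D _ (hmem a ha)]
    simp [mul_assoc]
  · calc g * a * g⁻¹ = g * (g⁻¹ * a * g⁻¹⁻¹) * g⁻¹ := by rw [h]
      _ = a := by group

/-- Coordinates for a pair with the standard minimal polynomial. -/
theorem exists_frame_aux (H : Pair23 V D g y v)
    (hrel : xs g v 11 = xs g v 0 * xs g v 2 * xs g v 4 * xs g v 5 * xs g v 6 * xs g v 10) :
    ∃ ψ, IsFrame V D ψ ∧ ψ 1 = v := by
  classical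
  have hx : ∀ i, xs g v i ∈ V := fun i => H.conj_pow i H.v_mem
  have hmem : ∀ n a, pw (xs g v) n a ∈ V := by
    intro n
    induction n with
    | zero => intro a; exact one_mem V
    | succ n ih =>
      intro a
      rw [pw]
      refine mul_mem (ih a) ?_
      split
      exacts [hx n, one_mem V]
  have hmul : ∀ n a b, pw (xs g v) n (a ^^^ b) = pw (xs g v) n a * pw (xs g v) n b := by
    intro n
    induction n with
    | zero => intro a b; simp [pw]
    | succ n ih =>
      intro a b
      simp only [pw, ih, Nat.testBit_xor]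
      have hc : ∀ {w : G}, w ∈ V → pw (xs g v) n b * w = w * pw (xs g v) n b :=
        fun hw => H.comm (hmem n b) hw
      cases a.testBit n <;> cases b.testBit n <;>
        simp only [Bool.false_bne, Bool.true_bne, Bool.not_false, Bool.not_true, if_true, mul_one,
          Bool.false_eq_true, if_false]
      · rw [mul_assoc]
      · rw [mul_assoc, hc (hx n), mul_assoc]
      · rw [mul_assoc _ (xs g v n), ← mul_assoc (xs g v n), ← hc (hx n), mul_assoc _ (xs g v n),
          H.sq _ (hx n), mul_one]
  set ψ : ℕ → G := pw (xs g v) 11 with hψ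
  have hbasis : ∀ i < 11, ψ (2 ^ i) = xs g v i := by
    intro i hi
    have key : ∀ n, pw (xs g v) n (2 ^ i) = if i < n then xs g v i else 1 := by
      intro n
      induction n with
      | zero => simp [pw]
      | succ n ih =>
        rw [pw, ih, Nat.testBit_two_pow]
        rcases lt_trichotomy i n with h | h | h
        · simp [h, h.ne, Nat.lt_succ_of_lt h]
        · simp [h]
        · simp [h.ne', not_lt.mpr h.le, show ¬ i < n + 1 by omega]
    rw [hψ, key, if_pos hi]
  have h11 : ψ 1141 = xs g v 11 := by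
    rw [hrel, show (1141 : ℕ) = 2 ^ 0 ^^^ 2 ^ 2 ^^^ 2 ^ 4 ^^^ 2 ^ 5 ^^^ 2 ^ 6 ^^^ 2 ^ 10 by decide]
    simp only [hψ, hmul]
    rw [← hψ, hbasis 0 (by norm_num), hbasis 2 (by norm_num), hbasis 4 (by norm_num),
      hbasis 5 (by norm_num), hbasis 6 (by norm_num), hbasis 10 (by norm_num)]
  have hstep : ∀ a < 2048, g * ψ a * g⁻¹ = ψ (step a) := by
    refine ext_basis (φ := fun a => g * ψ a * g⁻¹) (φ' := fun a => ψ (step a)) ?_ ?_ ?_
    · intro a b _ _
      simp only [hψ, hmul]
      group
    · intro a b ha hb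
      simp only [step_xor ha hb, hψ, hmul]
    · intro i hi
      show g * ψ (2 ^ i) * g⁻¹ = ψ (step (2 ^ i))
      rw [hbasis i hi, step_basis i hi, show g * xs g v i * g⁻¹ = xs g v (i + 1) by
        simp only [xs, pow_succ']; group]
      split
      · subst_vars; exact h11.symm
      · rw [hbasis (i + 1) (by omega)]
  have hit : ∀ n, ψ (it step n 1) = xs g v n := by
    intro n
    induction n with
    | zero => exact hbasis 0 (by norm_num)
    | succ n ih =>
      rw [it, ← hstep _ (it_lt n 1 (by norm_num)), ih]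
      simp only [xs, pow_succ']
      group
  have hperiod : ∀ n, xs g v (n % 23) = xs g v n := fun n => by
    have : g ^ (n % 23) = g ^ n := by
      conv_rhs => rw [← Nat.div_add_mod n 23, pow_add, pow_mul, H.g_pow, one_pow, one_mul]
    simp only [xs, this]
  have hfrob : ∀ a < 2048, y * ψ a * y⁻¹ = ψ (frob a) := by
    refine ext_basis (φ := fun a => y * ψ a * y⁻¹) (φ' := fun a => ψ (frob a)) ?_ ?_ ?_
    · intro a b _ _
      simp only [hψ, hmul]
      group
    · intro a b _ _
      simp only [frob, combine_xor, hψ, hmul]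
    · intro i hi
      show y * ψ (2 ^ i) * y⁻¹ = ψ (frob (2 ^ i))
      rw [hbasis i hi, frob_basis i hi, hit, hperiod]
      simp only [xs]
      have e : y * g ^ i * y⁻¹ = g ^ (2 * i) := by rw [← _root_.conj_pow, H.y_g, ← pow_mul]
      calc y * (g ^ i * v * (g ^ i)⁻¹) * y⁻¹
          = (y * g ^ i * y⁻¹) * (y * v * y⁻¹) * (y * g ^ i * y⁻¹)⁻¹ := by group
        _ = _ := by rw [e, H.y_v]
  -- the bijection
  have h0 : ψ 0 = 1 := by
    have := hmul 11 0 0
    rw [Nat.xor_self] at this
    exact mul_left_cancel (this.symm.trans (mul_one _).symm)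
  let W : Subgroup G :=
    { carrier := {w | ∃ a < 2048, ψ a = w}
      one_mem' := ⟨0, by norm_num, h0⟩
      mul_mem' := by
        rintro _ _ ⟨a, ha, rfl⟩ ⟨b, hb, rfl⟩
        exact ⟨a ^^^ b, Nat.xor_lt_two_pow (n := 11) ha hb, hmul 11 a b⟩
      inv_mem' := by
        rintro _ ⟨a, ha, rfl⟩
        exact ⟨a, ha, (inv_eq_of_mul_eq_one_right (H.sq _ (hmem 11 a))).symm⟩ }
  have hW : W = V := H.irred (fun w ⟨a, _, h⟩ => h ▸ hmem 11 a)
    (fun w ⟨a, ha, h⟩ => ⟨step a, (step_spec ha).2.1, by rw [← hstep a ha, h]⟩)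
    (show v ∈ W from ⟨1, by norm_num, (hit 0).trans (by simp [xs])⟩) H.v_ne
  have hsurj : ∀ w ∈ V, ∃ a < 2048, ψ a = w := fun w hw => (hW ▸ hw : w ∈ W)
  have hinj : ∀ a b, a < 2048 → b < 2048 → ψ a = ψ b → a = b := by
    let f : Fin 2048 → ↥V := fun a => ⟨ψ a, hmem 11 a⟩
    have hf : Function.Surjective f := fun w => by
      obtain ⟨a, ha, h⟩ := hsurj w w.2
      exact ⟨⟨a, ha⟩, Subtype.ext h⟩
    have hb : Function.Bijective f :=
      hf.bijective_of_nat_card_le (by rw [Nat.card_fin, H.card]; norm_num)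
    intro a b ha hb' h
    exact congrArg Fin.val (hb.1 (a₁ := ⟨a, ha⟩) (a₂ := ⟨b, hb'⟩) (Subtype.ext h))
  refine ⟨ψ, ?_, (hit 0).trans (by simp [xs])⟩
  -- the invariant set of 276 vectors
  set E : ℕ → Prop := fun a => ψ a ∈ D with hE
  have estep : ∀ a < 2048, (E (step a) ↔ E a) := fun a ha => by
    simp only [hE, ← hstep a ha]; exact H.g_D _ (hmem 11 a)
  have efrob : ∀ a < 2048, (E (frob a) ↔ E a) := fun a ha => by
    simp only [hE, ← hfrob a ha]; exact H.y_D _ (hmem 11 a)
  have eit : ∀ n a, a < 2048 → (E (it step n a) ↔ E a) := by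
    intro n
    induction n with
    | zero => intro a _; rfl
    | succ n ih => intro a ha; rw [it, estep _ (it_lt n a ha), ih a ha]
  have fit_lt : ∀ n a, a < 2048 → it frob n a < 2048 := by
    intro n
    induction n with
    | zero => intro a h; exact h
    | succ n ih => intro a h; exact (step_spec (ih a h)).2.2
  have efit : ∀ n a, a < 2048 → (E (it frob n a) ↔ E a) := by
    intro n
    induction n with
    | zero => intro a _; rfl
    | succ n ih => intro a ha; rw [it, efrob _ (fit_lt n a ha), ih a ha]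
  have eshort : ∀ a ∈ short, E a ∧ a < 2048 := by
    intro a ha
    simp only [short, List.mem_map, List.mem_range] at ha
    obtain ⟨i, -, rfl⟩ := ha
    refine ⟨(eit i 1 (by norm_num)).mpr ?_, it_lt i 1 (by norm_num)⟩
    show ψ 1 ∈ D
    have h1 : ψ 1 = v := (hit 0).trans (by simp [xs])
    rw [h1]
    exact H.v_D
  -- every candidate containing one element of `D` outside the short orbit is `D`
  have hcand : ∀ r < 2048, ∀ m, isMask (short ++ long r) m = true → ∀ a < 2048,
      m.testBit a = true → oShort.testBit a = false → E a →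
      ∀ b < 2048, (E b ↔ m.testBit b = true) := by
    intro r hr m hm a ha hma hsa hEa
    obtain ⟨hnd, hbits⟩ := isMask_spec hm
    have hs := short_ok
    simp only [Bool.and_eq_true] at hs
    have hal : a ∈ long r := by
      rcases List.mem_append.mp ((hbits a).mp hma) with h | h
      · rw [((isMask_spec hs.1).2 a).mpr h] at hsa
        simp at hsa
      · exact h
    simp only [long, List.mem_flatMap, List.mem_map, List.mem_range] at hal
    obtain ⟨j, -, i, -, rfl⟩ := hal
    have hEr : E r := (efit j r hr).mp ((eit i _ (fit_lt j r hr)).mp hEa)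
    have hall : ∀ b ∈ short ++ long r, E b ∧ b < 2048 := by
      intro b hb
      rcases List.mem_append.mp hb with h | h
      · exact eshort b h
      · simp only [long, List.mem_flatMap, List.mem_map, List.mem_range] at h
        obtain ⟨j, -, i, -, rfl⟩ := h
        exact ⟨(eit i _ (fit_lt j r hr)).mpr ((efit j r hr).mpr hEr), it_lt i _ (fit_lt j r hr)⟩
    have hlen : (short ++ long r).length = 276 := by simp [short, long]
    have himg : (((short ++ long r).toFinset.image ψ : Finset G) : Set G) = D := by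
      refine Set.eq_of_subset_of_ncard_le ?_ ?_ (Set.toFinite _)
      · intro w hw
        simp only [Finset.coe_image, Set.mem_image, List.coe_toFinset, Set.mem_ofPred_eq] at hw
        obtain ⟨b, hb, rfl⟩ := hw
        exact (hall b hb).1
      · rw [Set.ncard_coe_finset, Finset.card_image_of_injOn, List.toFinset_card_of_nodup hnd,
          hlen, H.card_D]
        intro b hb c hc h
        exact hinj b c (hall b (List.mem_toFinset.mp hb)).2 (hall c (List.mem_toFinset.mp hc)).2 h
    intro b hb
    constructor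
    · intro hEb
      have : ψ b ∈ (((short ++ long r).toFinset.image ψ : Finset G) : Set G) := himg ▸ hEb
      simp only [Finset.coe_image, Set.mem_image, List.coe_toFinset, Set.mem_ofPred_eq] at this
      obtain ⟨c, hc, h⟩ := this
      rw [← hinj c b (hall c hc).2 hb h]
      exact (hbits c).mpr hc
    · exact fun h => (hall b ((hbits b).mp h)).1
  -- an element outside the short orbit
  obtain ⟨a, ha, hsa, hEa⟩ : ∃ a < 2048, oShort.testBit a = false ∧ E a := by
    by_contra hcon
    push Not at hcon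
    have hsub : D ⊆ ((short.toFinset.image ψ : Finset G) : Set G) := by
      intro d hd
      obtain ⟨a, ha, rfl⟩ := hsurj d (H.sub_D hd)
      simp only [Finset.coe_image, Set.mem_image, List.coe_toFinset, Set.mem_ofPred_eq]
      have hs := short_ok
      simp only [Bool.and_eq_true] at hs
      refine ⟨a, ((isMask_spec hs.1).2 a).mp ?_, rfl⟩
      by_contra hb
      rw [Bool.not_eq_true] at hb
      exact hcon a ha hb hd
    have := ((Set.ncard_le_ncard hsub (Set.toFinite _)).trans_eq (Set.ncard_coe_finset _)).trans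
      (Finset.card_image_le.trans (List.toFinset_card_le short))
    rw [H.card_D, show short.length = 23 from rfl] at this
    omega
  have ha0 : a ≠ 0 := fun h => by
    subst h
    have hd : ψ 0 ∈ D := hEa
    rw [h0] at hd
    exact H.one_D hd
  have hgood := good_ok
  simp only [Bool.and_eq_true] at hgood
  have hfinal : ∀ b < 2048, (E b ↔ dGood.testBit b = true) := by
    have hc := cover_ok
    simp only [List.all_eq_true, List.mem_range, Bool.or_eq_true, Nat.beq_eq, List.any_eq_true] at hc
    rcases hc a ha with ((h | h) | h) | ⟨q, hq, h⟩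
    · exact absurd h ha0
    · rw [h] at hsa; simp at hsa
    · exact hcand goodRep (by decide) dGood hgood.1.1 a ha h hsa hEa
    · exfalso
      have hb := List.all_eq_true.mp bad_ok q hq
      simp only [Bool.and_eq_true, Nat.blt_eq, Bool.not_eq_true', List.all_eq_true, Nat.beq_eq] at hb
      obtain ⟨⟨⟨⟨⟨⟨hmask, hw0⟩, hwlt⟩, hwnot⟩, hwit⟩, hlen8⟩, hnd⟩ := hb
      have hq1 : q.1 < 2048 := by
        have : ∀ q ∈ badData, q.1 < 2048 := by decide +kernel
        exact this q hq
      have hDE := hcand q.1 hq1 q.2.2.2 hmask a ha h hsa hEa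
      have hwD : ψ q.2.1 ∉ D := fun hh => by
        rw [(hDE _ hwlt).mp hh] at hwnot
        simp at hwnot
      have hw1 : ψ q.2.1 ≠ 1 := fun hh => by
        have := hinj q.2.1 0 hwlt (by norm_num) (hh.trans h0.symm)
        omega
      obtain ⟨X, hX, hXmem⟩ := H.narrow _ (hmem 11 _) hw1 hwD
      have hin : ∀ d ∈ q.2.2.1, ψ d ∈ X := fun d hd => by
        obtain ⟨⟨hd1, hd2⟩, hd3⟩ := hwit d hd
        refine hXmem _ ((hDE d hd3).mpr hd1) ?_
        rw [← hmul 11]
        exact (hDE _ (Nat.xor_lt_two_pow (n := 11) hd3 hwlt)).mpr hd2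
      have hspan : ∀ l : List ℕ, (∀ d ∈ l, ψ d ∈ X ∧ d < 2048) →
          ∀ c ∈ spanL l, ψ c ∈ X ∧ c < 2048 := by
        intro l
        induction l with
        | nil =>
          intro _ c hc
          rw [List.mem_singleton.mp hc, h0]
          exact ⟨one_mem X, by norm_num⟩
        | cons d l ih =>
          intro hl c hc
          have hl' := ih fun e he => hl e (List.mem_cons_of_mem _ he)
          rcases List.mem_append.mp hc with h | h
          · exact hl' c h
          · obtain ⟨e, he, rfl⟩ := List.mem_map.mp h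
            refine ⟨?_, Nat.xor_lt_two_pow (n := 11) (hl' e he).2 (hl d List.mem_cons_self).2⟩
            rw [hψ, hmul]
            exact mul_mem (hl' e he).1 (hl d List.mem_cons_self).1
      have hs := hspan q.2.2.1 fun d hd => ⟨hin d hd, (hwit d hd).2⟩
      have hlen : ∀ l : List ℕ, (spanL l).length = 2 ^ l.length := by
        intro l
        induction l with
        | nil => rfl
        | cons d l ih => simp [spanL, ih, pow_succ]; omega
      have hsub : (((spanL q.2.2.1).toFinset.image ψ : Finset G) : Set G) ⊆ (X : Set G) := by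
        intro w hw
        simp only [Finset.coe_image, Set.mem_image, List.coe_toFinset, Set.mem_ofPred_eq] at hw
        obtain ⟨c, hc, rfl⟩ := hw
        exact (hs c hc).1
      have hcount := Set.ncard_le_ncard hsub (Set.toFinite _)
      rw [Set.ncard_coe_finset, Finset.card_image_of_injOn, List.toFinset_card_of_nodup
        (noRep_spec hnd), hlen, hlen8, ← Nat.card_coe_set_eq, SetLike.coe_sort_coe] at hcount
      · omega
      · intro b hb c hc h
        exact hinj b c (hs b (List.mem_toFinset.mp hb)).2 (hs c (List.mem_toFinset.mp hc)).2 h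
  exact
    { mem := hmem 11
      sq := H.sq
      mul := fun a b _ _ => hmul 11 a b
      inj := hinj
      surj := hsurj
      mem_D := hfinal
      sub_D := H.sub_D }

/-- Coordinates exist. -/
theorem exists_frame (H : Pair23 V D g y v) : ∃ ψ, IsFrame V D ψ ∧ ψ 1 = v := by
  classical
  let : CommGroup ↥V :=
    { (inferInstance : Group ↥V) with mul_comm := fun a b => Subtype.ext (H.comm a.2 b.2) }
  let cg : ↥V →* ↥V :=
    { toFun := fun a => ⟨g * a * g⁻¹, H.g_V a a.2⟩
      map_one' := Subtype.ext (by simp)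
      map_mul' := fun a b => Subtype.ext (by simp [mul_assoc]) }
  let x : ℕ → ↥V → ↥V := fun i a => ⟨g ^ i * a * (g ^ i)⁻¹, H.conj_pow i a.2⟩
  let T : List ℕ → ↥V → ↥V := fun l a => (l.map fun i => x i a).prod
  have hxmul : ∀ i (a b : ↥V), x i (a * b) = x i a * x i b := fun i a b =>
    Subtype.ext (by simp [x, mul_assoc])
  have hx1 : ∀ i, x i 1 = 1 := fun i => Subtype.ext (by simp [x])
  have hxx : ∀ i j (a : ↥V), x i (x j a) = x (i + j) a := fun i j a =>
    Subtype.ext (by simp [x, pow_add, mul_assoc])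
  have hTmul : ∀ l (a b : ↥V), T l (a * b) = T l a * T l b := by
    intro l a b
    induction l with
    | nil => simp [T]
    | cons i l ih =>
      simp only [T, List.map_cons, List.prod_cons] at ih ⊢
      rw [ih, hxmul]
      ac_rfl
  have hT1 : ∀ l, T l 1 = 1 := fun l => by
    have := hTmul l 1 1
    rw [one_mul] at this
    exact mul_left_cancel (this.symm.trans (mul_one _).symm)
  have hxT : ∀ i l (a : ↥V), x i (T l a) = (l.map fun j => x (i + j) a).prod := by
    intro i l a
    induction l with
    | nil => exact hx1 i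
    | cons j l ih =>
      simp only [T, List.map_cons, List.prod_cons] at ih ⊢
      rw [hxmul, ih, hxx]
  have hTT : ∀ l l' (a : ↥V), T l (T l' a) =
      ((l.flatMap fun i => l'.map (i + ·)).map fun k => x k a).prod := by
    intro l l' a
    induction l with
    | nil => rfl
    | cons i l ih =>
      rw [List.flatMap_cons, List.map_append, List.prod_append, List.map_map, ← ih]
      show x i (T l' a) * T l (T l' a) = _
      rw [hxT]
      rfl
  have hsq : ∀ a : ↥V, a * a = 1 := fun a => Subtype.ext (H.sq a a.2)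
  set l1 : List ℕ := [0, 2, 4, 5, 6, 10, 11]
  set l2 : List ℕ := [0, 1, 5, 6, 7, 9, 11]
  have hprod : ∀ a : ↥V, T l1 (T l2 a) = 1 := by
    intro a
    rw [hTT, (List.Perm.map _ dup_ok).prod_eq, List.map_append, List.map_append, List.prod_append,
      List.prod_append, mul_assoc, hsq, mul_one]
    set s := ((List.range 23).map fun k => x k a).prod with hs
    refine Subtype.ext (H.fix _ s.2 ?_)
    have h1 : cg s = s := by
      rw [hs, map_list_prod, List.map_map]
      have e : ((⇑cg ∘ fun k => x k a) : ℕ → ↥V) = fun k => x (k + 1) a := funext fun k =>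
        Subtype.ext (by
          simp only [cg, x, Function.comp_apply, MonoidHom.coe_mk, OneHom.coe_mk, pow_succ']
          group)
      rw [e]
      have hp : ((List.range 23).map fun k => (k + 1) % 23).Perm (List.range 23) := by decide +kernel
      have e2 : ((List.range 23).map fun k => x (k + 1) a) =
          ((List.range 23).map fun k => (k + 1) % 23).map fun k => x k a := by
        rw [List.map_map]
        refine List.map_congr_left fun k _ => Subtype.ext ?_
        have : g ^ ((k + 1) % 23) = g ^ (k + 1) := by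
          conv_rhs => rw [← Nat.div_add_mod (k + 1) 23, pow_add, pow_mul, H.g_pow, one_pow, one_mul]
        simp only [x, Function.comp_apply, this]
      rw [e2, (List.Perm.map _ hp).prod_eq]
    exact congrArg Subtype.val h1
  -- one of the two factors kills everything
  have hcase : (∀ a, T l1 a = 1) ∨ ∀ a, T l2 a = 1 := by
    by_cases hinj : Function.Injective (T l2)
    · left
      intro a
      obtain ⟨b, rfl⟩ := (Finite.injective_iff_surjective.mp hinj) a
      exact hprod b
    · right
      let f : ↥V →* ↥V := { toFun := T l2, map_one' := hT1 l2, map_mul' := hTmul l2 }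
      have hker : f.ker ≠ ⊥ := fun h => hinj ((MonoidHom.ker_eq_bot_iff f).mp h)
      obtain ⟨⟨a, ha⟩, haK, hne⟩ := (Subgroup.bot_or_exists_ne_one f.ker).resolve_left hker
      set W := f.ker.map V.subtype
      have hWV : W = V := by
        refine H.irred (by rintro _ ⟨b, -, rfl⟩; exact b.2) ?_
          (show a ∈ W from ⟨_, haK, rfl⟩) (fun h => hne (Subtype.ext h))
        rintro _ ⟨b, hb, rfl⟩
        refine ⟨x 1 b, ?_, by simp [x]⟩
        show T l2 (x 1 b) = 1
        have hb' : T l2 b = 1 := hb
        have hcomm : T l2 (x 1 b) = x 1 (T l2 b) := by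
          rw [hxT]
          exact congrArg List.prod (List.map_congr_left fun j _ => by rw [hxx, Nat.add_comm])
        rw [hcomm, hb', hx1]
      intro b
      obtain ⟨c, hc, hcb⟩ := (hWV.symm ▸ b.2 : (b : G) ∈ W)
      rw [← show c = b from Subtype.ext hcb]
      exact hc
  have mkFrame : ∀ {g : G} (H : Pair23 V D g y v),
      xs g v 0 * (xs g v 2 * (xs g v 4 * (xs g v 5 * (xs g v 6 * (xs g v 10 * xs g v 11))))) = 1 →
      ∃ ψ, IsFrame V D ψ ∧ ψ 1 = v := by
    intro g H h
    refine H.exists_frame_aux ?_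
    have := H.sq _ (H.conj_pow 11 H.v_mem)
    simp only [← mul_assoc] at h
    exact mul_right_cancel (b := xs g v 11) (this.trans h.symm)
  rcases hcase with h | h
  · refine mkFrame H ?_
    have := congrArg Subtype.val (h ⟨v, H.v_mem⟩)
    simpa [T, l1, x, xs, mul_assoc] using this
  · refine mkFrame H.inv ?_
    have hginv : ∀ i ≤ 23, (g⁻¹) ^ i = g ^ (23 - i) := fun i hi => by
      rw [inv_pow, inv_eq_iff_mul_eq_one, ← pow_add, Nat.add_sub_cancel' hi, H.g_pow]
    have h' := congrArg Subtype.val (h ⟨xs g v 12, H.conj_pow 12 H.v_mem⟩)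
    have he : ∀ i j, g ^ i * xs g v j * (g ^ i)⁻¹ = xs g v (i + j) := fun i j => by
      simp only [xs, pow_add]; group
    have hi : ∀ i ≤ 23, xs g⁻¹ v i = xs g v (23 - i) := fun i hi => by simp only [xs, hginv i hi]
    have h0 : xs g⁻¹ v 0 = xs g v 23 := by simp only [xs, pow_zero, H.g_pow]
    simp only [T, l2, x, List.map_cons, List.map_nil, List.prod_cons, List.prod_nil, mul_one,
      Subgroup.coe_mul, he] at h'
    norm_num at h'
    rw [h0, hi 2 (by norm_num), hi 4 (by norm_num), hi 5 (by norm_num), hi 6 (by norm_num),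
      hi 10 (by norm_num), hi 11 (by norm_num)]
    norm_num
    have c := fun i j => H.comm (H.conj_pow i H.v_mem) (H.conj_pow j H.v_mem)
    simp only [← mul_assoc] at h' ⊢
    let X : ℕ → ↥V := fun i => ⟨xs g v i, H.conj_pow i H.v_mem⟩
    have h'' : X 12 * X 13 * X 17 * X 18 * X 19 * X 21 * X 23 = 1 := Subtype.ext h'
    have goal' : X 23 * X 21 * X 19 * X 18 * X 17 * X 13 * X 12 = 1 := by rw [← h'']; ac_rfl
    exact congrArg Subtype.val goal'

end Pair23

end Cfsg.Agent.Lib.J4Big.Cocode
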