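import Cfsg.Agent.Lib.J4Big.Cocode.Exist

/-!
# An element of order 23 and one squaring it, in a group with the numerical invariants of `2^11 : M24`
-/

set_option autoImplicit false
set_option linter.unusedSectionVars false

namespace Cfsg.Agent.Lib.J4Big.Cocode

variable {G : Type*} [Group G] [Finite G] {V : Subgroup G} {D : Set G}

/-- The fixed points of an element of prime order in an invariant subgroup. -/
theorem card_fixed_modEq {W : Subgroup G} {q : ℕ} [hq : Fact q.Prime] {x : G} (hx : x ^ q = 1)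
    (hW : ∀ w ∈ W, x * w * x⁻¹ ∈ W) :
    Nat.card ↥(W ⊓ Subgroup.centralizer ({x} : Set G)) ≡ Nat.card ↥W [MOD q] := by
  classical
  have := Fintype.ofFinite G
  have hW' : ∀ n, ∀ w ∈ W, x ^ n * w * (x ^ n)⁻¹ ∈ W := by
    intro n
    induction n with
    | zero => intro w hw; simpa using hw
    | succ n ih =>
      intro w hw
      have := hW _ (ih w hw)
      rwa [pow_succ', show x * x ^ n * w * (x * x ^ n)⁻¹ = x * (x ^ n * w * (x ^ n)⁻¹) * x⁻¹ by group]
  let σ : Equiv.Perm ↥W :=
    Equiv.ofBijective (fun w : ↥W => (⟨x * w * x⁻¹, hW w w.2⟩ : ↥W))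
      (Finite.injective_iff_bijective.mp fun a b h =>
        Subtype.ext (mul_left_cancel (mul_right_cancel (congrArg Subtype.val h))))
  have hpow : ∀ n (b : ↥W), ((σ ^ n) b : G) = x ^ n * b * (x ^ n)⁻¹ := by
    intro n
    induction n with
    | zero => intro b; simp
    | succ n ih =>
      intro b
      rw [pow_succ', Equiv.Perm.mul_apply]
      show x * ((σ ^ n) b : G) * x⁻¹ = _
      rw [ih, pow_succ']
      group
  have h := Equiv.Perm.card_compl_support_modEq (p := q) (n := 1) (σ := σ)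
    (Equiv.ext fun b => Subtype.ext (by rw [pow_one, hpow, hx]; simp))
  have hfix : (σ.supportᶜ : Finset ↥W) =
      (((W ⊓ Subgroup.centralizer ({x} : Set G)).subgroupOf W : Subgroup ↥W) : Set ↥W).toFinset := by
    ext b
    simp only [Finset.mem_compl, Equiv.Perm.mem_support, not_not, Set.mem_toFinset, SetLike.mem_coe,
      Subgroup.mem_subgroupOf, Subgroup.mem_inf, b.2, true_and, Subgroup.mem_centralizer_iff,
      Set.mem_singleton_iff, forall_eq]
    rw [Subtype.ext_iff]
    exact mul_inv_eq_iff_eq_mul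
  rw [hfix, ← Set.ncard_eq_toFinset_card', ← Nat.card_coe_set_eq, SetLike.coe_sort_coe,
    Nat.card_congr (Subgroup.subgroupOfEquivOfLe inf_le_left).toEquiv,
    ← Nat.card_eq_fintype_card] at h
  exact h

theorem squares_gen : ∀ i < 23, i ≠ 1 → i ^ 11 % 23 = 1 → ∃ j < 11, i ^ j % 23 = 2 := by
  decide +kernel

/-- The pair exists. -/
theorem exists_pair23 (hsq : ∀ a ∈ V, a * a = 1) (hc : Nat.card ↥V = 2 ^ 11)
    (hcent : Subgroup.centralizer (V : Set G) = V)
    (hN : Nat.card ↥(Subgroup.normalizer (V : Set G)) = 2 ^ 11 * 244823040)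
    (hD : ∀ n ∈ Subgroup.normalizer (V : Set G), ∀ a ∈ V, (n * a * n⁻¹ ∈ D ↔ a ∈ D))
    (hsub : D ⊆ V) (h1 : (1 : G) ∉ D) (h276 : D.ncard = 276)
    (hnarrow : ∀ a ∈ V, a ≠ 1 → a ∉ D →
      ∃ W : Subgroup G, Nat.card ↥W ≤ 128 ∧ ∀ d ∈ D, d * a ∈ D → d ∈ W) :
    ∃ g y v, Pair23 V D g y v := by
  classical
  have := Fintype.ofFinite G
  have := Fact.mk (show Nat.Prime 23 by norm_num)
  have := Fact.mk (show Nat.Prime 11 by norm_num)
  set N := Subgroup.normalizer (V : Set G) with hNdef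
  have hNV : ∀ n ∈ N, ∀ a ∈ V, n * a * n⁻¹ ∈ V := fun n hn a ha =>
    (Subgroup.mem_normalizer_iff.mp hn a).mp ha
  obtain ⟨g, hg⟩ := exists_prime_orderOf_dvd_card' 23
    (show 23 ∣ Nat.card ↥N by rw [hN]; norm_num)
  have hg23 : g ^ 23 = 1 := hg ▸ pow_orderOf_eq_one g
  have hg23' : (g : G) ^ 23 = 1 := by rw [← SubgroupClass.coe_pow, hg23]; rfl
  have hgo : orderOf (g : G) = 23 := by rw [Subgroup.orderOf_coe, hg]
  -- invariant subgroups have order one or `2 ^ 11`
  have two_mod : ∀ c, c ≤ 11 → 1 % 23 = 2 ^ c % 23 → c = 0 ∨ c = 11 := fun c hc h =>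
    two_pow_mod_23 c hc h.symm
  have hcard : ∀ W : Subgroup G, W ≤ V → ∃ c ≤ 11, Nat.card ↥W = 2 ^ c := fun W hW => by
    obtain ⟨c, hc'⟩ := ((IsPGroup.of_card hc).to_le hW).exists_card_eq
    exact ⟨c, (Nat.pow_le_pow_iff_right (by norm_num : 1 < 2)).mp
      (hc' ▸ hc ▸ Subgroup.card_le_of_le hW), hc'⟩
  have notin : ∀ x : G, x ∈ V → ∀ q, q.Prime → q ≠ 2 → orderOf x ≠ q := by
    intro x hx q hq hq2 ho
    have : orderOf x ∣ 2 ^ 11 := by
      rw [← hc, ← Subgroup.orderOf_mk x hx]; exact orderOf_dvd_natCard _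
    rw [ho] at this
    exact hq2 ((Nat.prime_dvd_prime_iff_eq hq Nat.prime_two).mp (hq.dvd_of_dvd_pow this))
  have hfix : ∀ a ∈ V, (g : G) * a * (g : G)⁻¹ = a → a = 1 := by
    set W := V ⊓ Subgroup.centralizer ({(g : G)} : Set G) with hW
    obtain ⟨c, hc11, hcW⟩ := hcard W inf_le_left
    have h := card_fixed_modEq (q := 23) hg23' (hNV g g.2)
    rw [← hW, hcW, hc] at h
    rcases two_mod c hc11 (h.trans (by rfl)).symm with rfl | rfl
    · rw [pow_zero, Subgroup.card_eq_one] at hcW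
      intro a ha hga
      have : a ∈ W := ⟨ha, Subgroup.mem_centralizer_iff.mpr fun b hb => by
        rw [Set.mem_singleton_iff.mp hb]; exact mul_inv_eq_iff_eq_mul.mp hga⟩
      rwa [hcW, Subgroup.mem_bot] at this
    · exfalso
      have hWV : W = V := Subgroup.eq_of_le_of_card_ge inf_le_left (by rw [hcW, hc])
      refine notin g (hcent.le (Subgroup.mem_centralizer_iff.mpr fun a ha => ?_)) 23
        (by norm_num) (by norm_num) hgo
      have ha' : a ∈ W := hWV.symm ▸ ha
      exact (Subgroup.mem_centralizer_iff.mp ha'.2 _ rfl).symm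
  -- elements of prime order commuting with `g`
  have hcomm : ∀ (x : ↥N) (q : ℕ), q.Prime → orderOf x = q → x * g = g * x → q = 23 := by
    intro x q hq hx hxg
    have := Fact.mk hq
    have hxG : orderOf (x : G) = q := by rw [Subgroup.orderOf_coe, hx]
    have hxg' : (x : G) * g = g * x := congrArg Subtype.val hxg
    set W := V ⊓ Subgroup.centralizer ({(x : G)} : Set G) with hW
    have hWg : ∀ w ∈ W, (g : G) * w * (g : G)⁻¹ ∈ W := fun w hw => by
      refine ⟨hNV g g.2 w hw.1, Subgroup.mem_centralizer_iff.mpr fun b hb => ?_⟩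
      rw [Set.mem_singleton_iff.mp hb]
      have hc1 : Commute (x : G) g := hxg'
      have hc2 : Commute (x : G) w := Subgroup.mem_centralizer_iff.mp hw.2 _ rfl
      exact ((hc1.mul_right hc2).mul_right hc1.inv_right).eq
    obtain ⟨c, hc11, hcW⟩ := hcard W inf_le_left
    have h := card_fixed_modEq (q := 23) hg23' hWg
    have hbot : W ⊓ Subgroup.centralizer ({(g : G)} : Set G) = ⊥ :=
      (Subgroup.eq_bot_iff_forall _).mpr fun a ha => hfix a ha.1.1
        (mul_inv_eq_iff_eq_mul.mpr (Subgroup.mem_centralizer_iff.mp ha.2 _ rfl))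
    rw [hbot, Subgroup.card_bot, hcW] at h
    rcases two_mod c hc11 h with rfl | rfl
    · have h' := card_fixed_modEq (q := q) (W := V) (hxG ▸ pow_orderOf_eq_one (x : G)) (hNV x x.2)
      rw [← hW, hcW, hc, pow_zero] at h'
      have hdvd : q ∣ 23 * 89 := by
        have := (Nat.modEq_iff_dvd' (by norm_num : 1 ≤ 2 ^ 11)).mp h'
        norm_num at this ⊢
        exact this
      have hdN : q ∣ 2 ^ 11 * 244823040 := by rw [← hN, ← hx]; exact orderOf_dvd_natCard x
      rcases (Nat.Prime.dvd_mul hq).mp hdvd with h23 | h89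
      · exact (Nat.prime_dvd_prime_iff_eq hq (by norm_num)).mp h23
      · exfalso
        rw [(Nat.prime_dvd_prime_iff_eq hq (by norm_num)).mp h89] at hdN
        norm_num at hdN
    · exfalso
      have hxV : (x : G) ∈ V := by
        refine hcent.le (Subgroup.mem_centralizer_iff.mpr fun a ha => ?_)
        have hWV : W = V := Subgroup.eq_of_le_of_card_ge inf_le_left (by rw [hcW, hc])
        have ha' : a ∈ W := hWV.symm ▸ ha
        exact (Subgroup.mem_centralizer_iff.mp ha'.2 _ rfl).symm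
      have := hfix x hxV (by rw [← hxg', mul_inv_cancel_right])
      rw [← Subgroup.orderOf_coe, this, orderOf_one] at hx
      exact hq.ne_one hx.symm
  -- the normaliser of the Sylow subgroup
  set P : Subgroup ↥N := Subgroup.zpowers g with hP
  have hPc : Nat.card ↥P = 23 := by rw [hP, Nat.card_zpowers, hg]
  set C := Subgroup.centralizer (P : Set ↥N) with hC
  have hCc : Nat.card ↥C = 23 := by
    have hmem : ∀ x ∈ C, x * g = g * x := fun x hx =>
      (Subgroup.mem_centralizer_iff.mp hx g (Subgroup.mem_zpowers g)).symm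
    have hprimes : ∀ q : ℕ, q.Prime → q ∣ Nat.card ↥C → q = 23 := by
      intro q hq hd
      have := Fact.mk hq
      obtain ⟨x, hx⟩ := exists_prime_orderOf_dvd_card' q hd
      exact hcomm x q hq (by rw [Subgroup.orderOf_coe, hx]) (hmem x x.2)
    obtain ⟨k, hk⟩ : ∃ k, Nat.card ↥C = 23 ^ k :=
      ⟨_, Nat.eq_prime_pow_of_unique_prime_dvd Nat.card_pos.ne' fun {d} hd hdv => hprimes d hd hdv⟩
    have hPC : P ≤ C := by
      refine Subgroup.zpowers_le.mpr (Subgroup.mem_centralizer_iff.mpr fun x hx => ?_)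
      obtain ⟨i, rfl⟩ := Subgroup.mem_zpowers_iff.mp hx
      exact (Commute.zpow_self g i).eq
    have h23 := Subgroup.card_dvd_of_le hPC
    rw [hPc, hk] at h23
    have hdN : 23 ^ k ∣ 2 ^ 11 * 244823040 := by
      rw [← hN, ← hk]; exact Subgroup.card_subgroup_dvd_card C
    rcases k with _ | _ | k
    · norm_num at h23
    · simpa using hk
    · exact absurd ((pow_dvd_pow 23 (by omega : 2 ≤ k + 1 + 1)).trans hdN) (by norm_num)
  set NP := Subgroup.normalizer (P : Set ↥N) with hNP
  obtain ⟨Ps, hPs⟩ : ∃ Ps : Sylow 23 ↥N, (Ps : Subgroup ↥N) = P := by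
    obtain ⟨Q, hQ⟩ := (IsPGroup.of_card (p := 23) (n := 1) (by rw [hPc]; norm_num) :
      IsPGroup 23 ↥P).exists_le_sylow
    refine ⟨Q, (Subgroup.eq_of_le_of_card_ge hQ ?_).symm⟩
    obtain ⟨k, hk⟩ := Q.isPGroup'.exists_card_eq
    rw [hk, hPc]
    have hdN : 23 ^ k ∣ 2 ^ 11 * 244823040 := by
      rw [← hN, ← hk]; exact Subgroup.card_subgroup_dvd_card _
    rcases k with _ | _ | k
    · norm_num
    · norm_num
    · exact absurd ((pow_dvd_pow 23 (by omega : 2 ≤ k + 1 + 1)).trans hdN) (by norm_num)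
  have hidx := card_sylow_modEq_one 23 ↥N
  rw [Ps.card_eq_index_normalizer, show ((Ps : Sylow 23 ↥N) : Set ↥N) = (P : Set ↥N) by rw [← hPs]; rfl] at hidx
  have hNPc : ∃ m, m ∣ 22 ∧ Nat.card ↥NP = 23 * m := by
    set f := P.normalizerMonoidHom
    refine ⟨Nat.card ↥f.range, ?_, ?_⟩
    · have hcyc : IsCyclic ↥P := isCyclic_of_prime_card hPc
      have h := Subgroup.card_subgroup_dvd_card f.range
      rwa [IsCyclic.card_mulAut, hPc, Nat.totient_prime (by norm_num)] at h
    · have h := Subgroup.card_mul_index f.ker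
      rw [Subgroup.index_ker, Subgroup.normalizerMonoidHom_ker,
        Nat.card_congr (Subgroup.subgroupOfEquivOfLe (Subgroup.centralizer_le_normalizer _)).toEquiv,
        hCc] at h
      exact h.symm
  have h11 : 11 ∣ Nat.card ↥NP := by
    obtain ⟨m, hm, hmc⟩ := hNPc
    have hmul := Subgroup.card_mul_index NP
    rw [hmc, hN] at hmul
    have hdiv : NP.index = 2 ^ 11 * 244823040 / (23 * m) := by
      rw [← hmul, Nat.mul_div_cancel_left _ (Nat.pos_of_ne_zero (by rw [← hmc]; exact Nat.card_pos.ne'))]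
    rw [Nat.ModEq, hdiv] at hidx
    have hle : m ≤ 22 := Nat.le_of_dvd (by norm_num) hm
    rw [hmc]
    revert hidx hm
    clear hmul hmc hdiv
    revert m
    decide +kernel
  obtain ⟨y, hy⟩ := exists_prime_orderOf_dvd_card' 11 h11
  have hy11 : ((y : ↥N) : ↥N) ^ 11 = 1 := by rw [← SubgroupClass.coe_pow, ← hy, pow_orderOf_eq_one]; rfl
  have hyg : (y : ↥N) * g * (y : ↥N)⁻¹ ∈ P :=
    (Subgroup.mem_normalizer_iff.mp y.2 g).mp (Subgroup.mem_zpowers g)
  have hfo : IsOfFinOrder g := isOfFinOrder_of_finite g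
  obtain ⟨i, hi, hig⟩ := (hfo.mem_zpowers_iff_mem_range_orderOf.mp hyg |> Finset.mem_image.mp)
  rw [Finset.mem_range, hg] at hi
  have hpowy : ∀ n, (y : ↥N) ^ n * g * ((y : ↥N) ^ n)⁻¹ = g ^ (i ^ n) := by
    intro n
    induction n with
    | zero => simp
    | succ n ih =>
      rw [pow_succ', show (y : ↥N) * (y : ↥N) ^ n * g * ((y : ↥N) * (y : ↥N) ^ n)⁻¹ =
        (y : ↥N) * ((y : ↥N) ^ n * g * ((y : ↥N) ^ n)⁻¹) * (y : ↥N)⁻¹ by group, ih, ← conj_pow,
        ← hig, ← pow_mul, pow_succ']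
  have hmod : ∀ n, g ^ (n % 23) = g ^ n := fun n => by
    conv_rhs => rw [← Nat.div_add_mod n 23, pow_add, pow_mul, hg23, one_pow, one_mul]
  have hi1 : i ≠ 1 := by
    rintro rfl
    rw [pow_one] at hig
    have := hcomm y 11 (by norm_num) (by rw [Subgroup.orderOf_coe, hy]) (by
      calc (y : ↥N) * g = (y : ↥N) * g * (y : ↥N)⁻¹ * y := by group
        _ = g * y := by rw [← hig])
    omega
  have hi11 : i ^ 11 % 23 = 1 := by
    have h := hpowy 11
    rw [hy11, one_mul, inv_one, mul_one] at h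
    have h' := pow_eq_pow_iff_modEq.mp ((pow_one g).trans h)
    rw [hg] at h'
    exact h'.symm
  obtain ⟨j, hj, hij⟩ := squares_gen i hi hi1 hi11
  set w : ↥N := (y : ↥N) ^ j with hw
  have hwg : w * g * w⁻¹ = g ^ 2 := by rw [hw, hpowy, ← hmod, hij]
  have hw11 : (w : G) ^ 11 = 1 := by
    have : w ^ 11 = 1 := by rw [hw, ← pow_mul, mul_comm, pow_mul, hy11, one_pow]
    rw [← SubgroupClass.coe_pow, this]; rfl
  -- a fixed element of `D`
  have hwD : ∀ d ∈ D, (w : G) * d * (w : G)⁻¹ ∈ D := fun d hd => (hD w w.2 d (hsub hd)).mpr hd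
  let σ : Equiv.Perm ↥D :=
    Equiv.ofBijective (fun d : ↥D => (⟨(w : G) * d * (w : G)⁻¹, hwD d d.2⟩ : ↥D))
      (Finite.injective_iff_bijective.mp fun a b h =>
        Subtype.ext (mul_left_cancel (mul_right_cancel (congrArg Subtype.val h))))
  have hσpow : ∀ n (b : ↥D), ((σ ^ n) b : G) = (w : G) ^ n * b * ((w : G) ^ n)⁻¹ := by
    intro n
    induction n with
    | zero => intro b; simp
    | succ n ih =>
      intro b
      rw [pow_succ', Equiv.Perm.mul_apply]
      show (w : G) * ((σ ^ n) b : G) * (w : G)⁻¹ = _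
      rw [ih, pow_succ']
      group
  have hσ := Equiv.Perm.card_compl_support_modEq (p := 11) (n := 1) (σ := σ)
    (Equiv.ext fun b => Subtype.ext (by rw [pow_one, hσpow, hw11]; simp))
  rw [← Nat.card_eq_fintype_card, Nat.card_coe_set_eq, h276] at hσ
  obtain ⟨v, hv⟩ : (σ.supportᶜ : Finset ↥D).Nonempty := by
    rw [← Finset.card_pos]
    by_contra h0
    rw [Nat.le_zero.mp (not_lt.mp h0)] at hσ
    exact absurd hσ (by decide)
  simp only [Finset.mem_compl, Equiv.Perm.mem_support, not_not] at hv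
  exact ⟨g, w, v,
    { sq := hsq
      card := hc
      g_pow := hg23'
      g_V := hNV g g.2
      y_V := hNV w w.2
      g_D := hD g g.2
      y_D := hD w w.2
      y_g := by
        have := congrArg Subtype.val hwg
        simpa using this
      v_D := v.2
      y_v := congrArg Subtype.val hv
      sub_D := hsub
      one_D := h1
      card_D := h276
      fix := hfix
      narrow := hnarrow }⟩

end Cfsg.Agent.Lib.J4Big.Cocode
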