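import Cfsg.Agent.Lib.J4Big.Cocode.Checks
import Cfsg.Agent.Lib.Golay.Perm

/-!
# A group with a coordinatised cocode: the action on the twenty-four points

`IsFrame V D ψ` says that `ψ` identifies the vectors below 2048 with `V`, carrying the 276 sums
of two points to `D`.  Elements preserving `V` and `D` then permute the points, preserving the code.
-/

set_option autoImplicit false
set_option linter.unusedSectionVars false

namespace Cfsg.Agent.Lib.J4Big.Cocode

open Cfsg Cfsg.Agent.Lib.Golay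
open scoped Pointwise

variable {G : Type*} [Group G] {V : Subgroup G} {D : Set G} {ψ : ℕ → G}

/-- Coordinates on `V`. -/
structure IsFrame (V : Subgroup G) (D : Set G) (ψ : ℕ → G) : Prop where
  mem : ∀ a, ψ a ∈ V
  sq : ∀ v ∈ V, v * v = 1
  mul : ∀ a b, a < 2048 → b < 2048 → ψ (a ^^^ b) = ψ a * ψ b
  inj : ∀ a b, a < 2048 → b < 2048 → ψ a = ψ b → a = b
  surj : ∀ v ∈ V, ∃ a < 2048, ψ a = v
  mem_D : ∀ a < 2048, (ψ a ∈ D ↔ dGood.testBit a = true)
  sub_D : D ⊆ V

/-- The point vectors. -/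
def piV (q : GolayPt) : ℕ := piL.getD (idx q) 0

/-- The point elements. -/
def Pt (ψ : ℕ → G) (q : GolayPt) : G := ψ (piV q)

theorem piV_lt (q : GolayPt) : piV q < 2048 := by
  revert q
  unfold piV
  decide +kernel

theorem piV_none : piV none = 0 := rfl

theorem piL_lt : ∀ x ∈ piL, x < 2048 := by decide +kernel

theorem pairIdx_mem {i j : ℕ} (hij : i < j) (hj : j < 24) : (i, j) ∈ pairIdx := by
  simp only [pairIdx, List.mem_flatMap, List.mem_map, List.mem_range]
  exact ⟨j, hj, i, hij, rfl⟩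

theorem pairIdx_lt {q : ℕ × ℕ} (h : q ∈ pairIdx) : q.1 < q.2 ∧ q.2 < 24 := by
  simp only [pairIdx, List.mem_flatMap, List.mem_map, List.mem_range] at h
  obtain ⟨j, hj, i, hi, rfl⟩ := h
  exact ⟨hi, hj⟩

/-- The code of an unordered pair of points. -/
def pq (a b : GolayPt) : ℕ × ℕ := (min (idx a) (idx b), max (idx a) (idx b))

theorem pq_mem {a b : GolayPt} (h : a ≠ b) : pq a b ∈ pairIdx := by
  have hne : idx a ≠ idx b := fun e => h (idx_injective e)
  exact pairIdx_mem (min_lt_max.mpr hne) (max_lt (idx_lt a) (idx_lt b))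

theorem pairVal_pq (a b : GolayPt) : pairVal (pq a b) = piV a ^^^ piV b := by
  rcases le_total (idx a) (idx b) with h | h
  · simp [pq, pairVal, piV, min_eq_left h, max_eq_right h]
  · simp [pq, pairVal, piV, min_eq_right h, max_eq_left h, Nat.xor_comm]

theorem pq_eq {a b c d : GolayPt} (h : pq a b = pq c d) :
    (a = c ∧ b = d) ∨ (a = d ∧ b = c) := by
  simp only [pq, Prod.mk.injEq] at h
  obtain ⟨h1, h2⟩ := h
  rcases le_total (idx a) (idx b) with ha | ha <;> rcases le_total (idx c) (idx d) with hc | hc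
  · rw [min_eq_left ha, min_eq_left hc] at h1
    rw [max_eq_right ha, max_eq_right hc] at h2
    exact Or.inl ⟨idx_injective h1, idx_injective h2⟩
  · rw [min_eq_left ha, min_eq_right hc] at h1
    rw [max_eq_right ha, max_eq_left hc] at h2
    exact Or.inr ⟨idx_injective h1, idx_injective h2⟩
  · rw [min_eq_right ha, min_eq_left hc] at h1
    rw [max_eq_left ha, max_eq_right hc] at h2
    exact Or.inr ⟨idx_injective h2, idx_injective h1⟩
  · rw [min_eq_right ha, min_eq_right hc] at h1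
    rw [max_eq_left ha, max_eq_left hc] at h2
    exact Or.inl ⟨idx_injective h2, idx_injective h1⟩

theorem pairMask : (pairIdx.map pairVal).Nodup ∧
    ∀ a, dGood.testBit a = true ↔ a ∈ pairIdx.map pairVal := by
  have h := good_ok
  simp only [Bool.and_eq_true] at h
  exact isMask_spec h.1.2

theorem dGood_lt {a : ℕ} (h : dGood.testBit a = true) : a < 2048 := by
  have hg := good_ok
  simp only [Bool.and_eq_true, Nat.blt_eq] at hg
  by_contra hge
  push Not at hge
  have := hg.2.trans_le (Nat.pow_le_pow_right (by norm_num : 2 > 0) hge)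
  rw [Nat.testBit_lt_two_pow this] at h
  simp at h

namespace IsFrame

theorem psi_zero (H : IsFrame V D ψ) : ψ 0 = 1 := by
  have h := H.mul 0 0 (by norm_num) (by norm_num)
  rw [Nat.xor_self] at h
  exact mul_left_cancel (h.symm.trans (mul_one _).symm)

theorem pt_none (H : IsFrame V D ψ) : Pt ψ none = 1 := H.psi_zero

theorem pt_mem (H : IsFrame V D ψ) (q : GolayPt) : Pt ψ q ∈ V := H.mem _

theorem pt_sq (H : IsFrame V D ψ) (q : GolayPt) : Pt ψ q * Pt ψ q = 1 := H.sq _ (H.pt_mem q)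

theorem comm (H : IsFrame V D ψ) {v w : G} (hv : v ∈ V) (hw : w ∈ V) : v * w = w * v := by
  rw [← inv_eq_of_mul_eq_one_right (H.sq _ (mul_mem hv hw)), mul_inv_rev,
    inv_eq_of_mul_eq_one_right (H.sq _ hv), inv_eq_of_mul_eq_one_right (H.sq _ hw)]

theorem pair_val (H : IsFrame V D ψ) (a b : GolayPt) :
    Pt ψ a * Pt ψ b = ψ (pairVal (pq a b)) := by
  rw [pairVal_pq, H.mul _ _ (piV_lt a) (piV_lt b)]
  rfl

theorem pairVal_lt {q : ℕ × ℕ} (hq : q ∈ pairIdx) : pairVal q < 2048 :=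
  dGood_lt ((pairMask.2 _).mpr (List.mem_map.mpr ⟨q, hq, rfl⟩))

/-- The sums of two points lie in `D`. -/
theorem pair_mem (H : IsFrame V D ψ) {a b : GolayPt} (h : a ≠ b) : Pt ψ a * Pt ψ b ∈ D := by
  rw [H.pair_val]
  exact (H.mem_D _ (pairVal_lt (pq_mem h))).mpr
    ((pairMask.2 _).mpr (List.mem_map.mpr ⟨_, pq_mem h, rfl⟩))

/-- Every element of `D` is the sum of two points. -/
theorem exists_pair (H : IsFrame V D ψ) {d : G} (hd : d ∈ D) :
    ∃ a b, a ≠ b ∧ Pt ψ a * Pt ψ b = d := by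
  obtain ⟨n, hn, rfl⟩ := H.surj d (H.sub_D hd)
  obtain ⟨⟨i, j⟩, hq, rfl⟩ := List.mem_map.mp ((pairMask.2 n).mp ((H.mem_D n hn).mp hd))
  obtain ⟨hij, hj⟩ := pairIdx_lt hq
  simp only at hij hj
  refine ⟨pt i, pt j, fun h => ?_, ?_⟩
  · have := congrArg idx h
    rw [idx_pt (by omega), idx_pt hj] at this
    omega
  · rw [H.pair_val]
    congr 2
    simp [pq, idx_pt (show i < 24 by omega), idx_pt hj, min_eq_left hij.le, max_eq_right hij.le]

/-- The two points are determined. -/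
theorem pair_unique (H : IsFrame V D ψ) {a b c d : GolayPt} (hab : a ≠ b) (hcd : c ≠ d)
    (h : Pt ψ a * Pt ψ b = Pt ψ c * Pt ψ d) : (a = c ∧ b = d) ∨ (a = d ∧ b = c) := by
  rw [H.pair_val, H.pair_val] at h
  exact pq_eq (List.inj_on_of_nodup_map pairMask.1 (pq_mem hab) (pq_mem hcd)
    (H.inj _ _ (pairVal_lt (pq_mem hab)) (pairVal_lt (pq_mem hcd)) h))

/-- If the product of two elements of `D` is in `D` then they share a point. -/
theorem share (H : IsFrame V D ψ) {a b c d : GolayPt} (hab : a ≠ b) (hcd : c ≠ d)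
    (h : Pt ψ a * Pt ψ b * (Pt ψ c * Pt ψ d) ∈ D) : a = c ∨ a = d ∨ b = c ∨ b = d := by
  have hq := pq_mem hab
  have hr := pq_mem hcd
  by_cases he : pq a b = pq c d
  · rcases pq_eq he with ⟨h1, -⟩ | ⟨h1, -⟩
    exacts [Or.inl h1, Or.inr (Or.inl h1)]
  rw [H.pair_val, H.pair_val, ← H.mul _ _ (pairVal_lt hq) (pairVal_lt hr)] at h
  have hbit := (H.mem_D _ (Nat.xor_lt_two_pow (n := 11) (pairVal_lt hq) (pairVal_lt hr))).mp h
  have hne : pairVal (pq a b) ≠ pairVal (pq c d) := fun e =>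
    he (List.inj_on_of_nodup_map pairMask.1 hq hr e)
  have key : ∀ q ∈ pairIdx, ∀ r ∈ pairIdx, pairVal q < pairVal r →
      dGood.testBit (pairVal q ^^^ pairVal r) = true →
      q.1 = r.1 ∨ q.1 = r.2 ∨ q.2 = r.1 ∨ q.2 = r.2 := by
    intro q hq r hr hlt hb
    have hs := share_ok
    simp only [List.all_eq_true, Bool.or_eq_true, Bool.not_eq_true', ← Bool.not_eq_true,
      Nat.blt_eq, Nat.beq_eq] at hs
    rcases hs q hq r hr with ((((h | h) | h) | h) | h) | h
    · exact absurd hlt h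
    · exact absurd hb h
    · exact Or.inl h
    · exact Or.inr (Or.inl h)
    · exact Or.inr (Or.inr (Or.inl h))
    · exact Or.inr (Or.inr (Or.inr h))
  have hp : ∀ x y : GolayPt, idx x = idx y → x = y := fun x y e => idx_injective e
  have hmin : ∀ x y : GolayPt, min (idx x) (idx y) = idx x ∨ min (idx x) (idx y) = idx y :=
    fun x y => min_choice _ _
  have hmax : ∀ x y : GolayPt, max (idx x) (idx y) = idx x ∨ max (idx x) (idx y) = idx y :=
    fun x y => max_choice _ _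
  have hres : (pq a b).1 = (pq c d).1 ∨ (pq a b).1 = (pq c d).2 ∨ (pq a b).2 = (pq c d).1 ∨
      (pq a b).2 = (pq c d).2 := by
    rcases Nat.lt_or_gt_of_ne hne with hlt | hlt
    · exact key _ hq _ hr hlt hbit
    · have := key _ hr _ hq hlt (by rwa [Nat.xor_comm])
      omega
  simp only [pq] at hres
  rcases hres with e | e | e | e
  · rcases hmin a b with u | u <;> rcases hmin c d with v | v <;> rw [u, v] at e <;>
      have he' := hp _ _ e <;>
      first
        | exact Or.inl he'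
        | exact Or.inr (Or.inl he')
        | exact Or.inr (Or.inr (Or.inl he'))
        | exact Or.inr (Or.inr (Or.inr he'))
  · rcases hmin a b with u | u <;> rcases hmax c d with v | v <;> rw [u, v] at e <;>
      have he' := hp _ _ e <;>
      first
        | exact Or.inl he'
        | exact Or.inr (Or.inl he')
        | exact Or.inr (Or.inr (Or.inl he'))
        | exact Or.inr (Or.inr (Or.inr he'))
  · rcases hmax a b with u | u <;> rcases hmin c d with v | v <;> rw [u, v] at e <;>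
      have he' := hp _ _ e <;>
      first
        | exact Or.inl he'
        | exact Or.inr (Or.inl he')
        | exact Or.inr (Or.inr (Or.inl he'))
        | exact Or.inr (Or.inr (Or.inr he'))
  · rcases hmax a b with u | u <;> rcases hmax c d with v | v <;> rw [u, v] at e <;>
      have he' := hp _ _ e <;>
      first
        | exact Or.inl he'
        | exact Or.inr (Or.inl he')
        | exact Or.inr (Or.inr (Or.inl he'))
        | exact Or.inr (Or.inr (Or.inr he'))

/-- `n` acts as `σ` on the pairs. -/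
def _root_.Cfsg.Agent.Lib.J4Big.Cocode.Rel (ψ : ℕ → G) (n : G) (σ : Equiv.Perm GolayPt) : Prop :=
  ∀ a b, n * (Pt ψ a * Pt ψ b) * n⁻¹ = Pt ψ (σ a) * Pt ψ (σ b)

theorem rel_one : Rel ψ 1 1 := fun a b => by simp

theorem rel_mul {n m : G} {σ τ : Equiv.Perm GolayPt} (h : Rel ψ n σ) (h' : Rel ψ m τ) :
    Rel ψ (n * m) (σ * τ) := fun a b => by
  rw [Equiv.Perm.mul_apply, Equiv.Perm.mul_apply, ← h (τ a) (τ b), ← h' a b]
  group

theorem rel_unique (H : IsFrame V D ψ) {n : G} {σ τ : Equiv.Perm GolayPt} (h : Rel ψ n σ)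
    (h' : Rel ψ n τ) : σ = τ := by
  have key : ∀ a b, a ≠ b → (σ a = τ a ∧ σ b = τ b) ∨ (σ a = τ b ∧ σ b = τ a) := fun a b hab =>
    H.pair_unique (σ.injective.ne hab) (τ.injective.ne hab) ((h a b).symm.trans (h' a b))
  refine Equiv.ext fun a => ?_
  by_contra hne
  obtain ⟨b, hb⟩ := exists_ne a
  obtain ⟨c, hc⟩ : ∃ c, c ≠ a ∧ c ≠ b := by
    have : (({a, b} : Finset GolayPt)ᶜ).Nonempty := by
      rw [← Finset.card_pos, Finset.card_compl, card_golayPt]
      have := Finset.card_le_two (a := a) (b := b)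
      omega
    obtain ⟨c, hc⟩ := this
    exact ⟨c, by simpa using hc⟩
  rcases key a b hb.symm with ⟨e, -⟩ | ⟨-, e1⟩
  · exact hne e
  rcases key a c hc.1.symm with ⟨e, -⟩ | ⟨-, e2⟩
  · exact hne e
  exact hc.2 (σ.injective (e2.trans e1.symm))

/-- A stabiliser permutes the points. -/
theorem exists_perm (H : IsFrame V D ψ) {n : G} (hD : ∀ d ∈ D, n * d * n⁻¹ ∈ D) :
    ∃ σ : Equiv.Perm GolayPt,
      ∀ a, n * Pt ψ a * n⁻¹ = Pt ψ (σ none) * Pt ψ (σ a) := by
  classical
  set E : GolayPt → G := fun a => n * Pt ψ a * n⁻¹ with hE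
  have hEmem : ∀ a, a ≠ none → E a ∈ D := fun a ha => hD _ (by
    have := H.pair_mem ha
    rwa [H.pt_none, mul_one] at this)
  have hE2 : ∀ a b, a ≠ b → E a * E b ∈ D := fun a b hab => by
    have : E a * E b = n * (Pt ψ a * Pt ψ b) * n⁻¹ := by simp only [hE]; group
    rw [this]
    exact hD _ (H.pair_mem hab)
  choose α β hne hval using fun a : {a : GolayPt // a ≠ none} => H.exists_pair (hEmem a a.2)
  -- two pairs, their common point
  have meet : ∀ a b, (a : GolayPt) ≠ b → ∀ ha : a ≠ none, ∀ hb : b ≠ none,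
      α ⟨a, ha⟩ = α ⟨b, hb⟩ ∨ α ⟨a, ha⟩ = β ⟨b, hb⟩ ∨ β ⟨a, ha⟩ = α ⟨b, hb⟩ ∨
        β ⟨a, ha⟩ = β ⟨b, hb⟩ := fun a b hab ha hb => by
    refine H.share (hne _) (hne _) ?_
    rw [hval, hval]
    exact hE2 a b hab
  let A : GolayPt := some 0
  let B : GolayPt := some 1
  have hA : A ≠ none := Option.some_ne_none _
  have hB : B ≠ none := Option.some_ne_none _
  have hAB : A ≠ B := by decide
  obtain ⟨u, v, w, huv, huw, hAv, hBw⟩ : ∃ u v w, u ≠ v ∧ u ≠ w ∧ Pt ψ u * Pt ψ v = E A ∧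
      Pt ψ u * Pt ψ w = E B := by
    have c := fun x y => H.comm (H.pt_mem x) (H.pt_mem y)
    rcases meet A B hAB hA hB with h | h | h | h
    · exact ⟨_, _, _, hne ⟨A, hA⟩, h ▸ hne ⟨B, hB⟩, hval ⟨A, hA⟩, h ▸ hval ⟨B, hB⟩⟩
    · exact ⟨_, _, _, hne ⟨A, hA⟩, h ▸ (hne ⟨B, hB⟩).symm, hval ⟨A, hA⟩, by
        rw [h, c]; exact hval ⟨B, hB⟩⟩
    · exact ⟨_, _, _, (hne ⟨A, hA⟩).symm, h ▸ hne ⟨B, hB⟩, (c _ _).trans (hval ⟨A, hA⟩),
        h ▸ hval ⟨B, hB⟩⟩
    · exact ⟨_, _, _, (hne ⟨A, hA⟩).symm, h ▸ (hne ⟨B, hB⟩).symm, (c _ _).trans (hval ⟨A, hA⟩),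
        by rw [h, c]; exact hval ⟨B, hB⟩⟩
  have hinjE : ∀ a b, E a = E b → Pt ψ a = Pt ψ b := fun a b h =>
    mul_left_cancel (mul_right_cancel h)
  have hPinj : ∀ a b, Pt ψ a = Pt ψ b → a = b := by
    intro a b h
    have h' : piV a = piV b := H.inj _ _ (piV_lt a) (piV_lt b) h
    revert h'
    clear h
    revert a b
    unfold piV
    decide +kernel
  have hvw : v ≠ w := fun h => hAB (hPinj _ _ (hinjE A B (by rw [← hAv, ← hBw, h])))
  -- every pair contains `u`
  have hall : ∀ a, a ≠ none → ∃ x, x ≠ u ∧ Pt ψ u * Pt ψ x = E a := by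
    intro a ha
    by_cases haA : a = A
    · subst haA; exact ⟨v, huv.symm, hAv⟩
    by_cases haB : a = B
    · subst haB; exact ⟨w, huw.symm, hBw⟩
    have m1 : u = α ⟨a, ha⟩ ∨ u = β ⟨a, ha⟩ ∨ v = α ⟨a, ha⟩ ∨ v = β ⟨a, ha⟩ := by
      refine H.share huv (hne _) ?_
      rw [hAv, hval]
      exact hE2 A a (Ne.symm haA)
    have m2 : u = α ⟨a, ha⟩ ∨ u = β ⟨a, ha⟩ ∨ w = α ⟨a, ha⟩ ∨ w = β ⟨a, ha⟩ := by
      refine H.share huw (hne _) ?_
      rw [hBw, hval]
      exact hE2 B a (Ne.symm haB)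
    by_cases h1 : u = α ⟨a, ha⟩
    · exact ⟨β ⟨a, ha⟩, fun h => hne _ (h1.symm.trans h.symm), by rw [h1]; exact hval _⟩
    by_cases h2 : u = β ⟨a, ha⟩
    · exact ⟨α ⟨a, ha⟩, fun h => h1 h.symm, by
        rw [h2, H.comm (H.pt_mem _) (H.pt_mem _)]; exact hval _⟩
    exfalso
    have e : E a = Pt ψ v * Pt ψ w := by
      rw [← hval ⟨a, ha⟩]
      rcases (show v = α ⟨a, ha⟩ ∨ v = β ⟨a, ha⟩ by tauto) with hv | hv <;>
        rcases (show w = α ⟨a, ha⟩ ∨ w = β ⟨a, ha⟩ by tauto) with hw | hw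
      · exact absurd (hv.trans hw.symm) hvw
      · rw [hv, hw]
      · rw [hv, hw]; exact H.comm (H.pt_mem _) (H.pt_mem _)
      · exact absurd (hv.trans hw.symm) hvw
    have e2 : E a = n * (Pt ψ A * Pt ψ B) * n⁻¹ := by
      rw [e, show n * (Pt ψ A * Pt ψ B) * n⁻¹ = E A * E B by simp only [hE]; group,
        ← hAv, ← hBw, H.comm (H.pt_mem u) (H.pt_mem v), mul_assoc, ← mul_assoc (Pt ψ u),
        H.pt_sq, one_mul]
    have e3 : Pt ψ a * Pt ψ none = Pt ψ A * Pt ψ B := by
      rw [H.pt_none, mul_one]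
      exact mul_left_cancel (mul_right_cancel e2)
    rcases H.pair_unique ha hAB e3 with ⟨h, -⟩ | ⟨h, -⟩
    exacts [haA h, haB h]
  choose f hf hfe using hall
  let g : GolayPt → GolayPt := fun a => if h : a = none then u else f a h
  have hgv : ∀ a, E a = Pt ψ u * Pt ψ (g a) := by
    intro a
    by_cases ha : a = none
    · subst ha
      simp [g, hE, H.pt_none, H.pt_sq]
    · simp only [g, ha, dif_neg, not_false_iff]
      exact (hfe a ha).symm
  have hg : Function.Injective g := fun a b h =>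
    hPinj _ _ (hinjE a b (by rw [hgv, hgv, h]))
  refine ⟨Equiv.ofBijective g (Finite.injective_iff_bijective.mp hg), fun a => ?_⟩
  have h0 : g none = u := by simp [g]
  rw [Equiv.ofBijective_apply, Equiv.ofBijective_apply, h0]
  exact hgv a

theorem rel_of_perm (H : IsFrame V D ψ) {n : G} {σ : Equiv.Perm GolayPt}
    (h : ∀ a, n * Pt ψ a * n⁻¹ = Pt ψ (σ none) * Pt ψ (σ a)) : Rel ψ n σ := fun a b => by
  rw [show n * (Pt ψ a * Pt ψ b) * n⁻¹ = n * Pt ψ a * n⁻¹ * (n * Pt ψ b * n⁻¹) by group, h, h,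
    H.comm (H.pt_mem (σ none)) (H.pt_mem (σ a)), mul_assoc, ← mul_assoc (Pt ψ (σ none)),
    H.pt_sq, one_mul]

end IsFrame

end Cfsg.Agent.Lib.J4Big.Cocode
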