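import Cfsg.Agent.Lib.J4Big.Cocode.Code

/-!
# The homomorphism to the group of the code
-/

set_option autoImplicit false
set_option linter.unusedSectionVars false

namespace Cfsg.Agent.Lib.J4Big.Cocode

open Cfsg Cfsg.Agent.Lib.Golay

variable {G : Type*} [Group G] {V : Subgroup G} {D : Set G} {ψ : ℕ → G} {N : Subgroup G}

namespace IsFrame

/-- Stabilisers act on the points. -/
theorem exists_rel (H : IsFrame V D ψ) {n : G} (hN : ∀ v ∈ V, n * v * n⁻¹ ∈ V)
    (hD : ∀ d ∈ D, n * d * n⁻¹ ∈ D) : ∃ σ ∈ M24, Rel ψ n σ := by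
  obtain ⟨σ, hσ⟩ := H.exists_perm hD
  exact ⟨σ, H.perm_mem hN hσ, H.rel_of_perm hσ⟩

/-- The group `N` preserves `V` and `D`. -/
def Preserves (N V : Subgroup G) (D : Set G) : Prop :=
  ∀ n ∈ N, (∀ v ∈ V, n * v * n⁻¹ ∈ V) ∧ ∀ d ∈ D, n * d * n⁻¹ ∈ D

/-- The action of `N` on the points. -/
noncomputable def toM24 (H : IsFrame V D ψ) (hp : Preserves N V D) : ↥N →* ↥M24 where
  toFun n := ⟨Classical.choose (H.exists_rel (hp n n.2).1 (hp n n.2).2),
    (Classical.choose_spec (H.exists_rel (hp n n.2).1 (hp n n.2).2)).1⟩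
  map_one' := Subtype.ext (H.rel_unique
    (Classical.choose_spec (H.exists_rel (hp _ (1 : ↥N).2).1 (hp _ (1 : ↥N).2).2)).2 rel_one)
  map_mul' a b := Subtype.ext (H.rel_unique
    (Classical.choose_spec (H.exists_rel (hp _ (a * b).2).1 (hp _ (a * b).2).2)).2
    (rel_mul (Classical.choose_spec (H.exists_rel (hp a a.2).1 (hp a a.2).2)).2
      (Classical.choose_spec (H.exists_rel (hp b b.2).1 (hp b b.2).2)).2))

theorem toM24_rel (H : IsFrame V D ψ) (hp : Preserves N V D) (n : ↥N) :
    Rel ψ (n : G) (H.toM24 hp n : Equiv.Perm GolayPt) :=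
  (Classical.choose_spec (H.exists_rel (hp n n.2).1 (hp n n.2).2)).2

/-- The values on points generate. -/
theorem rel_one_iff (H : IsFrame V D ψ) {n : G} :
    Rel ψ n 1 ↔ ∀ v ∈ V, Commute n v := by
  constructor
  · intro h v hv
    have hpt : ∀ a, Commute n (Pt ψ a) := fun a => by
      have := h a none
      simp only [Equiv.Perm.one_apply, H.pt_none, mul_one] at this
      exact mul_inv_eq_iff_eq_mul.mp this
    obtain ⟨a, ha, rfl⟩ := H.surj v hv
    have key : ∀ i ≤ 11, ∀ b < 2 ^ i, Commute n (ψ b) := by
      intro i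
      induction i with
      | zero =>
        intro _ b hb
        have hb' : b = 0 := by simpa using hb
        subst hb'
        rw [H.psi_zero]
        exact Commute.one_right n
      | succ i ih =>
        intro hi b hb
        have h2 : (2 : ℕ) ^ i < 2048 := lt_of_lt_of_le (Nat.pow_lt_pow_right (by norm_num)
          (show i < 11 by omega)) (by norm_num)
        have hbi : Commute n (ψ (2 ^ i)) := by
          have hp' : piV (pt i) = 2 ^ i := by
            have : ∀ j < 11, piV (pt j) = 2 ^ j := by unfold piV; decide +kernel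
            exact this i (by omega)
          have := hpt (pt i)
          rwa [Pt, hp'] at this
        by_cases hlt : b < 2 ^ i
        · exact ih (by omega) b hlt
        · have hbit : b ^^^ 2 ^ i < 2 ^ i := by
            refine Nat.lt_pow_two_of_testBit _ fun j hj => ?_
            rcases eq_or_lt_of_le hj with rfl | hj'
            · have : b.testBit i = true := Nat.testBit_of_two_pow_le_and_two_pow_add_one_gt
                (by omega) hb
              simp [this]
            · rw [Nat.testBit_xor, Nat.testBit_lt_two_pow (hb.trans_le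
                (Nat.pow_le_pow_right (by norm_num) hj')), Nat.testBit_two_pow]
              simp [Nat.ne_of_lt hj']
          have h11 : (2 : ℕ) ^ i ≤ 2 ^ 11 := Nat.pow_le_pow_right (by norm_num) (by omega)
          have e : b = (b ^^^ 2 ^ i) ^^^ 2 ^ i := by
            rw [Nat.xor_assoc, Nat.xor_self, Nat.xor_zero]
          rw [e, H.mul _ _ (by omega) (by omega)]
          exact (ih (by omega) _ hbit).mul_right hbi
    exact key 11 le_rfl a (by norm_num; omega)
  · intro h a b
    rw [Equiv.Perm.one_apply, Equiv.Perm.one_apply,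
      (h _ (mul_mem (H.pt_mem a) (H.pt_mem b))).eq, mul_inv_cancel_right]

theorem ker_toM24 (H : IsFrame V D ψ) (hp : Preserves N V D) :
    (H.toM24 hp).ker = (Subgroup.centralizer (V : Set G)).subgroupOf N := by
  ext n
  rw [MonoidHom.mem_ker, Subgroup.mem_subgroupOf, Subgroup.mem_centralizer_iff]
  constructor
  · intro h v hv
    have hr := H.toM24_rel hp n
    rw [h] at hr
    exact ((H.rel_one_iff).mp hr v hv).eq.symm
  · intro h
    exact Subtype.ext (H.rel_unique (H.toM24_rel hp n)
      (H.rel_one_iff.mpr fun v hv => (h v hv).symm))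

end IsFrame

end Cfsg.Agent.Lib.J4Big.Cocode
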